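import Groth.Prelude.Def_CohTop
import Groth.Agent.S0468
import Groth.Agent.Lib.Helper1.ShCohTop

/-!
# Closure properties of the class of abelian sheaves with vanishing cohomology in degrees `≥ n`
(helper80)
-/

set_option autoImplicit false
universe u

open CategoryTheory CategoryTheory.Limits TopologicalSpace Opposite Abelian

namespace Groth.Agent.Lib.Helper80.GV

variable {X : TopCat.{u}}

/-- `H^p(X, F) = 0` for all `p ≥ n`. -/
def Van (n : ℕ) (F : CohTop.Ab X) : Prop := ∀ p : ℕ, n ≤ p → Subsingleton (CohTop.H F p)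

lemma subsingleton_H_of_iso {F G : CohTop.Ab X} (e : F ≅ G) (p : ℕ)
    (h : Subsingleton (CohTop.H F p)) : Subsingleton (CohTop.H G p) := by
  refine ⟨fun x y => ?_⟩
  have hx : ∀ z : CohTop.H G p, z = (z.comp (Ext.mk₀ e.inv) (add_zero p)).comp (Ext.mk₀ e.hom)
      (add_zero p) := by
    intro z
    rw [Ext.comp_assoc_of_third_deg_zero, Ext.mk₀_comp_mk₀, e.inv_hom_id, Ext.comp_mk₀_id]
  rw [hx x, hx y, Subsingleton.elim (x.comp (Ext.mk₀ e.inv) (add_zero p))
    (y.comp (Ext.mk₀ e.inv) (add_zero p))]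

lemma Van.of_iso {n : ℕ} {F G : CohTop.Ab X} (e : F ≅ G) (h : Van n F) : Van n G :=
  fun p hp => subsingleton_H_of_iso e p (h p hp)

lemma subsingleton_H_of_isZero {F : CohTop.Ab X} (hF : IsZero F) (p : ℕ) :
    Subsingleton (CohTop.H F p) := by
  refine ⟨fun x y => ?_⟩
  have hx : ∀ z : CohTop.H F p, z = 0 := by
    intro z
    have h1 : z = z.comp (Ext.mk₀ (𝟙 F)) (add_zero p) := (Ext.comp_mk₀_id z).symm
    rw [h1, hF.eq_of_src (𝟙 F) 0, Ext.mk₀_zero, Ext.comp_zero]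
  rw [hx x, hx y]

lemma Van.of_isZero {n : ℕ} {F : CohTop.Ab X} (hF : IsZero F) : Van n F :=
  fun p _ => subsingleton_H_of_isZero hF p

/-- middle term of a short exact sequence -/
lemma subsingleton_H_X₂ {S : ShortComplex (CohTop.Ab X)} (hS : S.ShortExact) (p : ℕ)
    (h₁ : Subsingleton (CohTop.H S.X₁ p)) (h₃ : Subsingleton (CohTop.H S.X₃ p)) :
    Subsingleton (CohTop.H S.X₂ p) := by
  refine ⟨fun x y => ?_⟩
  have hx : ∀ z : CohTop.H S.X₂ p, z = 0 := by
    intro z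
    obtain ⟨w, hw⟩ := Ext.covariant_sequence_exact₂ _ hS z (Subsingleton.elim _ _)
    rw [← hw, Subsingleton.elim w 0, Ext.zero_comp]
  rw [hx x, hx y]

/-- third term of a short exact sequence -/
lemma subsingleton_H_X₃ {S : ShortComplex (CohTop.Ab X)} (hS : S.ShortExact) (p : ℕ)
    (h₂ : Subsingleton (CohTop.H S.X₂ p)) (h₁ : Subsingleton (CohTop.H S.X₁ (p + 1))) :
    Subsingleton (CohTop.H S.X₃ p) := by
  refine ⟨fun x y => ?_⟩
  have hx : ∀ z : CohTop.H S.X₃ p, z = 0 := by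
    intro z
    obtain ⟨w, hw⟩ := Ext.covariant_sequence_exact₃ _ hS z rfl (Subsingleton.elim _ _)
    rw [← hw, Subsingleton.elim w 0, Ext.zero_comp]
  rw [hx x, hx y]

lemma Van.ext {n : ℕ} {S : ShortComplex (CohTop.Ab X)} (hS : S.ShortExact)
    (h₁ : Van n S.X₁) (h₃ : Van n S.X₃) : Van n S.X₂ :=
  fun p hp => subsingleton_H_X₂ hS p (h₁ p hp) (h₃ p hp)

lemma Van.coker {n : ℕ} {S : ShortComplex (CohTop.Ab X)} (hS : S.ShortExact)
    (h₁ : Van n S.X₁) (h₂ : Van n S.X₂) : Van n S.X₃ :=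
  fun p hp => subsingleton_H_X₃ hS p (h₂ p hp) (h₁ (p + 1) (by omega))

/-- third term with a shifted bound on the first term -/
lemma Van.coker' {n : ℕ} {S : ShortComplex (CohTop.Ab X)} (hS : S.ShortExact)
    (h₁ : Van (n + 1) S.X₁) (h₂ : Van n S.X₂) : Van n S.X₃ :=
  fun p hp => subsingleton_H_X₃ hS p (h₂ p hp) (h₁ (p + 1) (by omega))

/-- first term: `H^p(X₁)` sits between `H^{p-1}(X₃)` and `H^p(X₂)` -/
lemma subsingleton_H_X₁ {S : ShortComplex (CohTop.Ab X)} (hS : S.ShortExact) (p : ℕ)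
    (h₃ : Subsingleton (CohTop.H S.X₃ p)) (h₂ : Subsingleton (CohTop.H S.X₂ (p + 1))) :
    Subsingleton (CohTop.H S.X₁ (p + 1)) := by
  refine ⟨fun x y => ?_⟩
  have hx : ∀ z : CohTop.H S.X₁ (p + 1), z = 0 := by
    intro z
    obtain ⟨w, hw⟩ := Ext.covariant_sequence_exact₁ _ hS z (Subsingleton.elim _ _) rfl
    rw [← hw, Subsingleton.elim w 0, Ext.zero_comp]
  rw [hx x, hx y]

lemma Van.sub {n : ℕ} {S : ShortComplex (CohTop.Ab X)} (hS : S.ShortExact)
    (h₃ : Van n S.X₃) (h₂ : Van (n + 1) S.X₂) : Van (n + 1) S.X₁ := by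
  intro p hp
  obtain ⟨q, rfl⟩ : ∃ q, p = q + 1 := ⟨p - 1, by omega⟩
  exact subsingleton_H_X₁ hS q (h₃ q (by omega)) (h₂ (q + 1) hp)

theorem isZero_of_isColimit' {C J : Type*} [Category C] [Category J] [HasZeroMorphisms C]
    {D : J ⥤ C} {c : Cocone D} (hc : IsColimit c) (h : ∀ j, IsZero (D.obj j)) : IsZero c.pt := by
  rw [IsZero.iff_id_eq_zero]
  refine hc.hom_ext fun j => ?_
  exact (h j).eq_of_src _ _

/-- directed colimits -/
lemma Van.colimit [CompactSpace X] [PrespectralSpace X] [QuasiSeparatedSpace X] {n : ℕ}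
    {ι : Type u} [Preorder ι] [IsDirected ι (· ≤ ·)] [Nonempty ι] (D : ι ⥤ CohTop.Ab X)
    (c : Cocone D) (hc : IsColimit c) (h : ∀ i, Van n (D.obj i)) : Van n c.pt := by
  intro p hp
  let Hq := (Sheaf.cohomologyPresheafFunctor (Opens.grothendieckTopology X) p).flip.obj
    (op (⊤ : Opens X))
  have hP : PreservesColimitsOfShape ι Hq :=
    Groth.Agent.S0468.result (X := X) ⊤ (by simpa using isCompact_univ) ι p
  have h2 : IsColimit (Hq.mapCocone c) := isColimitOfPreserves Hq hc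
  have h3 : IsZero (Hq.mapCocone c).pt := by
    refine isZero_of_isColimit' h2 fun j => ?_
    have e := Groth.Agent.Lib.Helper1.HUTopEquivH (X := X) (D.obj j) p
    have hs : Subsingleton (CohTop.HU (D.obj j) p ⊤) :=
      e.toEquiv.subsingleton_congr.mpr (h j p hp)
    exact @AddCommGrpCat.isZero_of_subsingleton _ hs
  have e := Groth.Agent.Lib.Helper1.HUTopEquivH (X := X) c.pt p
  have hs : Subsingleton (CohTop.HU c.pt p ⊤) := AddCommGrpCat.subsingleton_of_isZero h3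
  exact e.symm.toEquiv.subsingleton_congr.mpr hs

end Groth.Agent.Lib.Helper80.GV
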