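import Mathlib.Topology.KrullDimension
import Mathlib.Topology.NoetherianSpace

/-!
# Bounded topological Krull dimension via chains of irreducible closed subsets (helper80)
-/

set_option autoImplicit false

open Set TopologicalSpace Topology Order

namespace Groth.Agent.Lib.Helper80.GV

/-- all chains of irreducible closed subsets of `T` have length `< n` -/
def DimLT (T : Type*) [TopologicalSpace T] (n : ℕ) : Prop :=
  ∀ p : LTSeries (IrreducibleCloseds T), p.length < n

variable {T W : Type*} [TopologicalSpace T] [TopologicalSpace W]

lemma DimLT.of_krullDim_le (d : ℕ) (h : topologicalKrullDim T ≤ d) : DimLT T (d + 1) := by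
  intro p
  have h1 : (p.length : WithBot ℕ∞) ≤ (d : WithBot ℕ∞) :=
    (LTSeries.length_le_krullDim p).trans h
  have h2 : p.length ≤ d := by exact_mod_cast h1
  omega

lemma DimLT.isEmpty (h : DimLT T 0) : IsEmpty T := by
  refine ⟨fun x => ?_⟩
  let c : IrreducibleCloseds T :=
    ⟨closure {x}, isIrreducible_singleton.closure, isClosed_closure⟩
  exact Nat.not_lt_zero _ (h (RelSeries.singleton _ c))

lemma DimLT.of_isInducing {f : W → T} (hf : IsInducing f) {n : ℕ} (h : DimLT T n) :
    DimLT W n := by
  intro p
  exact h (p.map _ (IrreducibleCloseds.map_strictMono_of_isInducing hf))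

lemma DimLT.of_proper_closed [IrreducibleSpace T] {f : W → T} (hf : IsClosedEmbedding f)
    (hne : Set.range f ≠ Set.univ) {n : ℕ} (h : DimLT T (n + 1)) : DimLT W n := by
  intro p
  let top : IrreducibleCloseds T :=
    ⟨Set.univ, IrreducibleSpace.isIrreducible_univ T, isClosed_univ⟩
  let q := p.map _ (IrreducibleCloseds.map_strictMono_of_isInducing hf.isInducing)
  have hlt : q.last < top := by
    refine lt_of_le_of_ne (fun x _ => Set.mem_univ x) ?_
    intro heq
    apply hne
    rw [eq_univ_iff_forall]
    intro x
    have hx : x ∈ (q.last : Set T) := by rw [heq]; exact Set.mem_univ x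
    have hsub : (q.last : Set T) ⊆ Set.range f := by
      change closure (f '' (p.last : Set W)) ⊆ Set.range f
      exact closure_minimal (Set.image_subset_range _ _) hf.isClosed_range
    exact hsub hx
  have := h (q.snoc top hlt)
  simp only [RelSeries.snoc_length] at this
  change p.length + 1 < n + 1 at this
  omega

end Groth.Agent.Lib.Helper80.GV
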