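import Groth.Agent.Lib.Helper80.GV.Core
import Groth.Agent.Lib.Helper80.GV.Closure
import Groth.Agent.Lib.Helper80.GV.Dim
import Groth.Agent.Lib.Helper19.ClosedEmb
import Groth.Agent.Lib.Helper1.ShCohTop
import Groth.Agent.S0459
import Groth.Agent.S0457

/-!
# Grothendieck's vanishing theorem on Noetherian spaces (helper80)
-/

set_option autoImplicit false
universe u

open CategoryTheory CategoryTheory.Limits TopologicalSpace Opposite

namespace Groth.Agent.Lib.Helper80.GV

open Groth.Agent.Lib.Helper4

variable {X : TopCat.{u}}

lemma St_id_apply (x : X) (F : CohTop.Ab X) (v : (St x).obj F) :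
    ((St x).map (𝟙 F)).hom v = v := by
  rw [CategoryTheory.Functor.map_id]
  rfl

/-- a sheaf all of whose stalks vanish is zero -/
lemma isZero_of_St_eq_zero (F : CohTop.Ab X) (h : ∀ (x : X) (v : (St x).obj F), v = 0) :
    IsZero F := by
  rw [IsZero.iff_id_eq_zero]
  apply hom_eq_zero_of_St
  intro x
  ext v
  rw [St_id_apply, h x v]
  rfl

lemma isZero_of_isEmpty [IsEmpty X] (F : CohTop.Ab X) : IsZero F :=
  isZero_of_St_eq_zero F (fun x => isEmptyElim x)

/-- vanishing transfers along closed embeddings to sheaves supported on the image -/
lemma Van.of_closedEmbedding {Y' Y : TopCat.{u}} (f : Y' ⟶ Y) (hf : Topology.IsClosedEmbedding f)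
    (m : ℕ) (hY' : ∀ A : CohTop.Ab Y', Van m A) (F : CohTop.Ab Y)
    (hF : ∀ x : Y, x ∉ Set.range f → ∀ v : (St x).obj F, v = 0) : Van m F := by
  have hz : ∀ x : Y, x ∉ Set.range f → IsZero (CohTop.stalk F x) := by
    intro x hx
    have hs : Subsingleton ((St x).obj F) :=
      ⟨fun a b => (hF x hx a).trans (hF x hx b).symm⟩
    exact @AddCommGrpCat.isZero_of_subsingleton ((St x).obj F) hs
  obtain ⟨A, ⟨e⟩⟩ := (Groth.Agent.Helper19.ClosedEmb.essImage_iff f hf F).2 hz
  intro p hp
  obtain ⟨φ⟩ := Groth.Agent.S0459.result f hf A p
  have h1 : Subsingleton (CohTop.H ((CohTop.push f).obj A) p) :=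
    φ.toEquiv.subsingleton_congr.1 (hY' A p hp)
  exact subsingleton_H_of_iso e p h1

/-- stalks of a cokernel vanish where the map is surjective on stalks -/
lemma coker_St_eq_zero {A B : CohTop.Ab X} (ι : A ⟶ B) (x : X)
    (hsurj : Function.Surjective ((St x).map ι).hom) (v : (St x).obj (cokernel ι)) : v = 0 := by
  obtain ⟨w, rfl⟩ := St_surjective_of_epi x (cokernel.π ι) v
  obtain ⟨w', rfl⟩ := hsurj w
  rw [← St_comp_apply, cokernel.condition, St_zero_apply]

lemma St_ιG_surjective {V U : Opens X} (h : V ≤ U) (x : X) (hx : x ∈ V ∨ x ∉ U) :
    Function.Surjective ((St x).map (ιG h)).hom := by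
  intro v
  rcases hx with hx | hx
  · obtain ⟨n, rfl⟩ := cZ_surjective U x (h hx) v
    exact ⟨cZ V x hx n, St_ιG_cZ h x hx n⟩
  · refine ⟨0, ?_⟩
    rw [map_zero, St_G_eq_zero U x hx v]

lemma shortExact_ιG {V U : Opens X} (h : V ≤ U) :
    (ShortComplex.mk (ιG h) (cokernel.π (ιG h)) (cokernel.condition _)).ShortExact :=
  { exact := ShortComplex.exact_of_g_is_cokernel _ (cokernelIsCokernel _)
    mono_f := inferInstanceAs (Mono (ιG h))
    epi_g := inferInstanceAs (Epi (cokernel.π (ιG h))) }

/-- on an irreducible space `ℤ_X` has no higher cohomology -/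
lemma Van_G_top [IrreducibleSpace X] (n : ℕ) : Van (n + 1) (G (⊤ : Opens X)) := by
  refine Van.of_iso (Groth.Agent.Lib.Helper1.constZIsoFree X) ?_
  intro p hp
  obtain ⟨q, rfl⟩ : ∃ q, p = q + 1 := ⟨p - 1, by omega⟩
  exact Groth.Agent.S0457.result (X := X) (ULift ℤ) q

/-- the closed embedding of a closed subset -/
noncomputable def inclSet (W : Set X) : TopCat.of W ⟶ X :=
  TopCat.ofHom ⟨Subtype.val, continuous_subtype_val⟩

lemma inclSet_isClosedEmbedding (W : Set X) (hW : IsClosed W) :
    Topology.IsClosedEmbedding (inclSet W) :=
  hW.isClosedEmbedding_subtypeVal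

lemma range_inclSet (W : Set X) : Set.range (inclSet W) = W :=
  Subtype.range_val

lemma devClass_Van [CompactSpace X] [PrespectralSpace X] [QuasiSeparatedSpace X] (m : ℕ) :
    DevClass (fun F : CohTop.Ab X => Van m F) :=
  { iso := fun e hA => Van.of_iso e hA
    ext := fun hS h₁ h₃ => Van.ext hS h₁ h₃
    coker := fun hS h₁ h₂ => Van.coker hS h₁ h₂
    colim := fun D c hc hD => Van.colimit D c hc hD }

/-- **Grothendieck vanishing**, chain formulation -/
theorem grothendieck_vanishing_aux (n : ℕ) :
    ∀ (Y : TopCat.{u}) [NoetherianSpace Y], DimLT Y n → ∀ F : CohTop.Ab Y, Van n F := by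
  induction n with
  | zero =>
    intro Y _ hdim F
    haveI := hdim.isEmpty
    exact Van.of_isZero (isZero_of_isEmpty F)
  | succ n ih =>
    intro Y _ hdim
    have key : ∀ Z : Closeds Y, ∀ (T : TopCat.{u}) (f : T ⟶ Y), Topology.IsClosedEmbedding f →
        Set.range f = (Z : Set Y) → ∀ F : CohTop.Ab T, Van (n + 1) F := by
      intro Z
      induction Z using WellFoundedLT.induction with
      | ind Z IH =>
        intro T f hf hr
        haveI : NoetherianSpace T := hf.isInducing.noetherianSpace
        have hdT : DimLT T (n + 1) := hdim.of_isInducing hf.isInducing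
        refine sheaf_devissage (devClass_Van (n + 1)) (fun Z hZ => Van.of_isZero hZ) ?_
        intro U _
        by_cases hirr : PreirreducibleSpace T
        · by_cases hne : Nonempty T
          · haveI : IrreducibleSpace T := { toPreirreducibleSpace := hirr, toNonempty := hne }
            by_cases hU : (U : Set T) = ∅
            · refine Van.of_isZero (isZero_of_St_eq_zero _ (fun x v => St_G_eq_zero U x ?_ v))
              intro hx
              have : x ∈ (U : Set T) := hx
              rw [hU] at this
              exact this
            · -- the irreducible case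
              have hW : IsClosed ((U : Set T)ᶜ) := U.2.isClosed_compl
              have hi := inclSet_isClosedEmbedding ((U : Set T)ᶜ) hW
              have hri := range_inclSet ((U : Set T)ᶜ)
              haveI : NoetherianSpace (TopCat.of ((U : Set T)ᶜ : Set T)) :=
                hi.isInducing.noetherianSpace
              have hne' : Set.range (inclSet ((U : Set T)ᶜ)) ≠ Set.univ := by
                rw [hri]
                intro h
                apply hU
                rw [← compl_compl (U : Set T), h, Set.compl_univ]
              have hT' : ∀ A : CohTop.Ab (TopCat.of ((U : Set T)ᶜ : Set T)), Van n A :=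
                ih _ (DimLT.of_proper_closed hi hne' hdT)
              have hC : Van n (cokernel (ιG (le_top : U ≤ ⊤))) := by
                refine Van.of_closedEmbedding _ hi n hT' _ (fun x hx v => ?_)
                rw [hri] at hx
                have hxU : x ∈ U := by
                  by_contra h
                  exact hx h
                exact coker_St_eq_zero _ x (St_ιG_surjective _ x (Or.inl hxU)) v
              exact Van.sub (shortExact_ιG (le_top : U ≤ ⊤)) hC (Van_G_top n)
          · haveI : IsEmpty T := not_nonempty_iff.1 hne
            exact Van.of_isZero (isZero_of_isEmpty _)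
        · -- the reducible case
          have hnp : ¬ IsPreirreducible (Set.univ : Set T) := fun h => hirr ⟨h⟩
          rw [isPreirreducible_iff_isClosed_union_isClosed] at hnp
          push Not at hnp
          obtain ⟨z₁, z₂, hz₁, hz₂, hcov, hn₁, hn₂⟩ := hnp
          -- the induction hypothesis for a proper closed subset of `T`
          have sub : ∀ z : Set T, IsClosed z → ¬ Set.univ ⊆ z →
              ∀ A : CohTop.Ab (TopCat.of z), Van (n + 1) A := by
            intro z hz hnz
            have hi := inclSet_isClosedEmbedding z hz
            have hfi : Topology.IsClosedEmbedding (inclSet z ≫ f) := hf.comp hi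
            have hrange : Set.range (inclSet z ≫ f) = f '' z := by
              change Set.range (f ∘ inclSet z) = f '' z
              rw [Set.range_comp, range_inclSet]
            have hcl : IsClosed (f '' z) := hf.isClosedMap z hz
            refine IH ⟨f '' z, hcl⟩ ?_ (TopCat.of z) (inclSet z ≫ f) hfi hrange
            refine lt_of_le_of_ne ?_ ?_
            · intro y hy
              change y ∈ (Z : Set Y)
              rw [← hr]
              exact Set.image_subset_range _ _ hy
            · intro heq
              apply hnz
              intro t _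
              have ht : f t ∈ (Z : Set Y) := by rw [← hr]; exact ⟨t, rfl⟩
              rw [← heq] at ht
              obtain ⟨t', ht', hft⟩ := ht
              rw [← hf.injective hft]
              exact ht'
          let U₁ : Opens T := ⟨z₂ᶜ, hz₂.isOpen_compl⟩
          have hV : U₁ ⊓ U ≤ U := inf_le_right
          have h1 : Van (n + 1) (G (U₁ ⊓ U)) := by
            refine Van.of_closedEmbedding _ (inclSet_isClosedEmbedding z₁ hz₁) (n + 1)
              (sub z₁ hz₁ hn₁) _ (fun x hx v => ?_)
            rw [range_inclSet] at hx
            refine St_G_eq_zero (U₁ ⊓ U) x ?_ v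
            rintro ⟨hx₁, _⟩
            rcases hcov (Set.mem_univ x) with h | h
            · exact hx h
            · exact hx₁ h
          have h2 : Van (n + 1) (cokernel (ιG hV)) := by
            refine Van.of_closedEmbedding _ (inclSet_isClosedEmbedding z₂ hz₂) (n + 1)
              (sub z₂ hz₂ hn₂) _ (fun x hx v => ?_)
            rw [range_inclSet] at hx
            refine coker_St_eq_zero _ x (St_ιG_surjective hV x ?_) v
            by_cases hxU : x ∈ U
            · exact Or.inl ⟨hx, hxU⟩
            · exact Or.inr hxU
          exact Van.ext (shortExact_ιG hV) h1 h2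
    intro F
    exact key ⊤ Y (𝟙 Y) Topology.IsClosedEmbedding.id (by simp) F

end Groth.Agent.Lib.Helper80.GV
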