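import Mathlib.CategoryTheory.Abelian.GrothendieckCategory.Subobject
import Mathlib.CategoryTheory.Subobject.Limits
import Mathlib.Algebra.Homology.ShortComplex.ShortExact
import Mathlib.CategoryTheory.Abelian.Basic

/-!
# Abstract dévissage in a Grothendieck abelian category (helper80)

A class of objects closed under isomorphisms, extensions, cokernels of monomorphisms and directed
colimits, which contains all "basic" cyclic quotients of a generating family, contains everything.
-/

set_option autoImplicit false
universe u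

open CategoryTheory CategoryTheory.Limits

namespace Groth.Agent.Lib.Helper80.GV

variable {𝒜 : Type (u + 1)} [Category.{u} 𝒜] [Abelian 𝒜] [IsGrothendieckAbelian.{u} 𝒜]

/-- closure properties of a class of objects -/
structure DevClass (P : 𝒜 → Prop) : Prop where
  iso : ∀ {A B : 𝒜}, (A ≅ B) → P A → P B
  ext : ∀ {S : ShortComplex 𝒜}, S.ShortExact → P S.X₁ → P S.X₃ → P S.X₂
  coker : ∀ {S : ShortComplex 𝒜}, S.ShortExact → P S.X₁ → P S.X₂ → P S.X₃
  colim : ∀ {ι : Type u} [Preorder ι] [IsDirected ι (· ≤ ·)] [Nonempty ι] (D : ι ⥤ 𝒜)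
    (c : Cocone D), IsColimit c → (∀ i, P (D.obj i)) → P c.pt

section CokerMap

variable {G : 𝒜}

/-- the map `G/S ⟶ G/T` for `S ≤ T` -/
noncomputable def cokerMap {S T : Subobject G} (h : S ≤ T) :
    cokernel S.arrow ⟶ cokernel T.arrow :=
  cokernel.desc _ (cokernel.π T.arrow) (by
    rw [← Subobject.ofLE_arrow h, Category.assoc, cokernel.condition, comp_zero])

@[reassoc (attr := simp)]
lemma π_cokerMap {S T : Subobject G} (h : S ≤ T) :
    cokernel.π S.arrow ≫ cokerMap h = cokernel.π T.arrow :=
  cokernel.π_desc _ _ _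

lemma cokerMap_refl (S : Subobject G) : cokerMap (le_refl S) = 𝟙 _ := by
  rw [← cancel_epi (cokernel.π S.arrow), π_cokerMap, Category.comp_id]

lemma cokerMap_trans {S T R : Subobject G} (h : S ≤ T) (h' : T ≤ R) :
    cokerMap h ≫ cokerMap h' = cokerMap (h.trans h') := by
  rw [← cancel_epi (cokernel.π S.arrow), π_cokerMap_assoc, π_cokerMap, π_cokerMap]

/-- a morphism killing `S` kills everything below the kernel -/
lemma arrow_comp_eq_zero_of_le_kernel {Z : 𝒜} (g : G ⟶ Z) (K : Subobject G)
    (h : K ≤ kernelSubobject g) : K.arrow ≫ g = 0 := by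
  rw [← Subobject.ofLE_arrow h, Category.assoc, kernelSubobject_arrow_comp, comp_zero]

lemma le_kernelSubobject_of_arrow_comp {Z : 𝒜} (g : G ⟶ Z) (K : Subobject G)
    (h : K.arrow ≫ g = 0) : K ≤ kernelSubobject g :=
  Subobject.le_of_comm (factorThruKernelSubobject g K.arrow h)
    (factorThruKernelSubobject_comp_arrow _ _ _)

variable {ι : Type u} [Preorder ι] (S : ι → Subobject G) (hS : Monotone S)

/-- the diagram of quotients `G / S i` -/
noncomputable def quotDiagram : ι ⥤ 𝒜 where
  obj i := cokernel (S i).arrow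
  map {i j} f := cokerMap (hS (leOfHom f))
  map_id _ := cokerMap_refl _
  map_comp _ _ := (cokerMap_trans _ _).symm

/-- the cocone of quotients over `G / K` -/
noncomputable def quotCocone (K : Subobject G) (hK : ∀ i, S i ≤ K) : Cocone (quotDiagram S hS) where
  pt := cokernel K.arrow
  ι := { app := fun i => cokerMap (hK i)
         naturality := fun _ _ _ => by
           dsimp [quotDiagram]
           rw [cokerMap_trans, Category.comp_id] }

/-- `G / ⨆ S i` is the colimit of the `G / S i` for a directed family -/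
noncomputable def quotCoconeIsColimit [IsDirected ι (· ≤ ·)] [Nonempty ι] (K : Subobject G)
    (hK : ∀ i, S i ≤ K) (hK' : K ≤ ⨆ i, S i) : IsColimit (quotCocone S hS K hK) := by
  let i₀ : ι := Classical.arbitrary ι
  have key : ∀ (s : Cocone (quotDiagram S hS)) (i j : ι),
      cokernel.π (S i).arrow ≫ s.ι.app i = cokernel.π (S j).arrow ≫ s.ι.app j := by
    intro s i j
    obtain ⟨k, hik, hjk⟩ := exists_ge_ge i j
    have h1 := s.w (homOfLE hik)
    have h2 := s.w (homOfLE hjk)
    dsimp [quotDiagram] at h1 h2
    rw [← h1, ← h2, π_cokerMap_assoc, π_cokerMap_assoc]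
  have kill : ∀ (s : Cocone (quotDiagram S hS)),
      K.arrow ≫ (cokernel.π (S i₀).arrow ≫ s.ι.app i₀) = 0 := by
    intro s
    apply arrow_comp_eq_zero_of_le_kernel
    refine hK'.trans (iSup_le fun i => ?_)
    apply le_kernelSubobject_of_arrow_comp
    rw [key s i₀ i, cokernel.condition_assoc, zero_comp]
  refine
    { desc := fun s => cokernel.desc K.arrow (cokernel.π (S i₀).arrow ≫ s.ι.app i₀) (kill s)
      fac := fun s i => ?_
      uniq := fun s m hm => ?_ }
  · change cokerMap (hK i) ≫ cokernel.desc K.arrow _ (kill s) = s.ι.app i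
    refine (cancel_epi (cokernel.π (S i).arrow)).1 ?_
    rw [π_cokerMap_assoc, cokernel.π_desc, key s i₀ i]
  · refine (cancel_epi (cokernel.π K.arrow)).1 ?_
    rw [cokernel.π_desc]
    have := hm i₀
    change cokerMap (hK i₀) ≫ m = s.ι.app i₀ at this
    rw [← this, π_cokerMap_assoc]

end CokerMap

section Basic

variable {P : 𝒜 → Prop}

/-- cyclic quotients: reduce from arbitrary subobjects to finite sups of basic ones -/
theorem quot_of_basic (hP : DevClass P) (G : 𝒜) {T : Type u} (b : T → Subobject G)
    (hsup : ∀ K : Subobject G, K ≤ ⨆ t : {t : T // b t ≤ K}, b t.1)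
    (hfin : ∀ B : Finset T, P (cokernel (B.sup b).arrow)) (K : Subobject G) :
    P (cokernel K.arrow) := by
  classical
  let S : Finset {t : T // b t ≤ K} → Subobject G := fun B => B.sup (fun t => b t.1)
  have hS : Monotone S := fun B B' h => Finset.sup_mono h
  have hK : ∀ B, S B ≤ K := fun B => Finset.sup_le (fun t _ => t.2)
  have hK' : K ≤ ⨆ B, S B := by
    refine (hsup K).trans (iSup_le fun t => le_trans ?_ (le_iSup S {t}))
    change b t.1 ≤ Finset.sup {t} (fun t => b t.1)
    rw [Finset.sup_singleton]
  refine hP.colim (quotDiagram S hS) (quotCocone S hS K hK)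
    (quotCoconeIsColimit S hS K hK hK') (fun B => ?_)
  change P (cokernel (S B).arrow)
  have e : S B = (B.image Subtype.val).sup b := by
    change B.sup (fun t => b t.1) = _
    rw [Finset.sup_image]
    rfl
  rw [e]
  exact hfin _

/-- variant of `quot_of_basic` with the generation hypothesis stated without suprema -/
theorem quot_of_basic' (hP : DevClass P) (G : 𝒜) {T : Type u} (b : T → Subobject G)
    (hsup : ∀ K N : Subobject G, (∀ t, b t ≤ K → b t ≤ N) → K ≤ N)
    (hfin : ∀ B : Finset T, P (cokernel (B.sup b).arrow)) (K : Subobject G) :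
    P (cokernel K.arrow) :=
  quot_of_basic hP G b (fun K => hsup K _ (fun t ht =>
    le_iSup (fun t : {t : T // b t ≤ K} => b t.1) ⟨t, ht⟩)) hfin K

/-- extension step: adding one generator -/
lemma step (hP : DevClass P) {F G : 𝒜} (S S' : Subobject F) (f : G ⟶ F)
    (h1 : S ≤ S') (h2 : imageSubobject f ≤ S') (h3 : S' ≤ S ⊔ imageSubobject f)
    (hS : P (S : 𝒜)) (hG : ∀ K : Subobject G, P (cokernel K.arrow)) : P (S' : 𝒜) := by
  let Sc : ShortComplex 𝒜 :=
    ShortComplex.mk (Subobject.ofLE S S' h1) (cokernel.π _) (cokernel.condition _)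
  have hSc : Sc.ShortExact :=
    { exact := ShortComplex.exact_of_g_is_cokernel _ (cokernelIsCokernel _)
      mono_f := inferInstanceAs (Mono (Subobject.ofLE S S' h1))
      epi_g := inferInstanceAs (Epi (cokernel.π (Subobject.ofLE S S' h1))) }
  refine hP.ext hSc hS ?_
  change P (cokernel (Subobject.ofLE S S' h1))
  -- the generator maps onto the quotient
  let g : G ⟶ (S' : 𝒜) := factorThruImageSubobject f ≫ Subobject.ofLE _ _ h2
  have hg : g ≫ S'.arrow = f := by
    dsimp only [g]
    rw [Category.assoc, Subobject.ofLE_arrow, imageSubobject_arrow_comp]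
  let q : G ⟶ cokernel (Subobject.ofLE S S' h1) := g ≫ cokernel.π _
  have hq : Epi q := by
    constructor
    intro Z a a' haa'
    have hz : ∀ h : cokernel (Subobject.ofLE S S' h1) ⟶ Z, q ≫ h = 0 → h = 0 := by
      intro h hh
      let k : (S' : 𝒜) ⟶ Z := cokernel.π _ ≫ h
      have hk1 : Subobject.ofLE S S' h1 ≫ k = 0 := by
        dsimp only [k]
        rw [cokernel.condition_assoc, zero_comp]
      have hk2 : g ≫ k = 0 := by
        dsimp only [k]
        rw [← Category.assoc]
        exact hh
      let N : Subobject F := Subobject.mk ((kernelSubobject k).arrow ≫ S'.arrow)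
      have hN1 : S ≤ N := by
        refine Subobject.le_mk_of_comm (factorThruKernelSubobject k _ hk1) ?_
        rw [← Category.assoc, factorThruKernelSubobject_comp_arrow, Subobject.ofLE_arrow]
      have hN2 : imageSubobject f ≤ N := by
        refine imageSubobject_le f (factorThruKernelSubobject k g hk2 ≫
          (Subobject.underlyingIso ((kernelSubobject k).arrow ≫ S'.arrow)).inv) ?_
        rw [Category.assoc, Subobject.underlyingIso_arrow, ← Category.assoc,
          factorThruKernelSubobject_comp_arrow, hg]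
      have hN3 : S' ≤ N := h3.trans (sup_le hN1 hN2)
      let φ : (S' : 𝒜) ⟶ (kernelSubobject k : 𝒜) :=
        Subobject.ofLE S' N hN3 ≫ (Subobject.underlyingIso _).hom
      have hφ : φ ≫ (kernelSubobject k).arrow = 𝟙 _ := by
        rw [← cancel_mono S'.arrow, Category.assoc, Category.id_comp]
        dsimp only [φ]
        rw [Category.assoc, Subobject.underlyingIso_hom_comp_eq_mk, Subobject.ofLE_arrow]
      have hk : k = 0 := by
        rw [← Category.id_comp k, ← hφ, Category.assoc, kernelSubobject_arrow_comp, comp_zero]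
      rw [← cancel_epi (cokernel.π (Subobject.ofLE S S' h1))]
      rw [comp_zero]
      exact hk
    have := hz (a - a') (by rw [Preadditive.comp_sub, haa', sub_self])
    exact sub_eq_zero.1 this
  have hcok : IsColimit (CokernelCofork.ofπ q (kernel.condition q)) :=
    Abelian.epiIsCokernelOfKernel (Fork.ofι (kernel.ι q) (by rw [kernel.condition, comp_zero]))
      (kernelIsKernel q)
  have e1 : cokernel (kernel.ι q) ≅ cokernel (Subobject.ofLE S S' h1) :=
    IsColimit.coconePointUniqueUpToIso (colimit.isColimit _) hcok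
  have e2 : cokernel (kernelSubobject q).arrow ≅ cokernel (kernel.ι q) := by
    have : (kernelSubobject q).arrow = (kernelSubobjectIso q).hom ≫ kernel.ι q := by
      rw [kernelSubobject_arrow]
    rw [this]
    exact cokernelEpiComp _ _
  exact hP.iso (e2 ≪≫ e1) (hG _)

/-- finitely generated subobjects belong to the class -/
theorem fg_mem (hP : DevClass P) (hzero : ∀ Z : 𝒜, IsZero Z → P Z) {I : Type u} (G : I → 𝒜)
    (hG : ∀ i (K : Subobject (G i)), P (cokernel K.arrow)) {F : 𝒜}
    (A : Finset (Σ i, G i ⟶ F)) :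
    P ((A.sup (fun a => imageSubobject a.2) : Subobject F) : 𝒜) := by
  classical
  induction A using Finset.induction_on with
  | empty =>
    rw [Finset.sup_empty]
    exact hzero _ (IsZero.of_iso (isZero_zero 𝒜) Subobject.botCoeIsoZero)
  | insert a A _ ih =>
    rw [Finset.sup_insert]
    refine step hP (A.sup (fun a => imageSubobject a.2)) _ a.2 le_sup_right le_sup_left ?_ ih
      (hG a.1)
    rw [sup_comm]

/-- **Dévissage**: a class closed under isomorphisms, extensions, cokernels of monomorphisms and
directed colimits, containing all quotients of a generating family, contains all objects. -/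
theorem devissage (hP : DevClass P) (hzero : ∀ Z : 𝒜, IsZero Z → P Z) {I : Type u} (G : I → 𝒜)
    (hgen : ∀ (F : 𝒜) (S : Subobject F), (∀ i (f : G i ⟶ F), imageSubobject f ≤ S) → S = ⊤)
    (hG : ∀ i (K : Subobject (G i)), P (cokernel K.arrow)) (F : 𝒜) : P F := by
  classical
  let S : Finset (Σ i, G i ⟶ F) → Subobject F := fun A => A.sup (fun a => imageSubobject a.2)
  have hS : Monotone S := fun A A' h => Finset.sup_mono h
  have htop : (⨆ A, S A) = ⊤ := by
    refine hgen F _ (fun i f => le_trans ?_ (le_iSup S {⟨i, f⟩}))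
    change imageSubobject f ≤ Finset.sup {(⟨i, f⟩ : Σ i, G i ⟶ F)} (fun a => imageSubobject a.2)
    rw [Finset.sup_singleton]
  let Fn : Finset (Σ i, G i ⟶ F) ⥤ MonoOver F :=
    { obj := fun A => MonoOver.mk (S A).arrow
      map := fun {A A'} f => MonoOver.homMk (Subobject.ofLE _ _ (hS (leOfHom f)))
        (Subobject.ofLE_arrow _)
      map_id := fun _ => Subsingleton.elim _ _
      map_comp := fun _ _ => Subsingleton.elim _ _ }
  let c : Cocone (Fn ⋙ MonoOver.forget F) :=
    { pt := Over.mk (𝟙 F)
      ι := { app := fun A => Over.homMk (S A).arrow (by simp [Fn, MonoOver.forget])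
             naturality := fun A A' f => by
               ext
               simp [Fn, MonoOver.forget] } }
  haveI : Mono c.pt.hom := by
    change Mono (𝟙 F)
    infer_instance
  have h : Subobject.mk c.pt.hom = ⨆ A, Subobject.mk (Fn.obj A).obj.hom := by
    change Subobject.mk (𝟙 F) = ⨆ A, Subobject.mk (S A).arrow
    simp only [Subobject.mk_arrow]
    rw [htop, Subobject.top_eq_id]
  have hc := IsGrothendieckAbelian.isColimitMapCoconeOfSubobjectMkEqISup Fn c h
  exact hP.colim _ _ hc (fun A => fg_mem hP hzero G hG A)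

end Basic

section Beta

variable {P : 𝒜 → Prop}

/-- `cokernel (imageSubobject f).arrow ≅ cokernel f` -/
noncomputable def cokernelImageSubobjectIso {A F : 𝒜} (f : A ⟶ F) :
    cokernel (imageSubobject f).arrow ≅ cokernel f :=
  (cokernelEpiComp (factorThruImageSubobject f) (imageSubobject f).arrow).symm ≪≫
    cokernelIsoOfEq (imageSubobject_arrow_comp f)

lemma imageSubobject_le_kernelSubobject {A F Z : 𝒜} (f : A ⟶ F) (g : F ⟶ Z) (h : f ≫ g = 0) :
    imageSubobject f ≤ kernelSubobject g :=
  imageSubobject_le f (factorThruKernelSubobject g f h) (factorThruKernelSubobject_comp_arrow _ _ _)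

variable {A F : 𝒜} (ι : A ⟶ F) (S : Subobject F)

/-- the kernel of `A ⟶ F ⟶ F/S` is the inverse image of `S` -/
lemma kernelSubobject_comp_cokernel_π :
    kernelSubobject (ι ≫ cokernel.π S.arrow) = (Subobject.pullback ι).obj S := by
  apply le_antisymm
  · have hk : ((kernelSubobject (ι ≫ cokernel.π S.arrow)).arrow ≫ ι) ≫ cokernel.π S.arrow = 0 := by
      rw [Category.assoc, kernelSubobject_arrow_comp]
    have hl : Abelian.monoLift S.arrow _ hk ≫ S.arrow =
        (kernelSubobject (ι ≫ cokernel.π S.arrow)).arrow ≫ ι := Abelian.monoLift_comp _ _ _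
    have hF : S.Factors ((kernelSubobject (ι ≫ cokernel.π S.arrow)).arrow ≫ ι) := by
      rw [← hl]
      exact Subobject.factors_comp_arrow _
    have := pullback_factors ι S _ hF
    exact Subobject.le_of_comm (Subobject.factorThru _ _ this) (Subobject.factorThru_arrow _ _ _)
  · apply le_kernelSubobject_of_arrow_comp
    rw [← Category.assoc, ← (Subobject.isPullback ι S).w, Category.assoc, cokernel.condition,
      comp_zero]

lemma comp_cokernel_π_sup :
    ι ≫ cokernel.π (S ⊔ imageSubobject ι).arrow = 0 := by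
  have h : imageSubobject ι ≤ S ⊔ imageSubobject ι := le_sup_right
  have h1 : ι = factorThruImageSubobject ι ≫ Subobject.ofLE _ _ h ≫
      (S ⊔ imageSubobject ι).arrow := by
    rw [Subobject.ofLE_arrow, imageSubobject_arrow_comp]
  calc ι ≫ cokernel.π (S ⊔ imageSubobject ι).arrow
      = (factorThruImageSubobject ι ≫ Subobject.ofLE _ _ h ≫
          (S ⊔ imageSubobject ι).arrow) ≫ cokernel.π (S ⊔ imageSubobject ι).arrow := by
        rw [← h1]
    _ = 0 := by
        rw [Category.assoc, Category.assoc, cokernel.condition, comp_zero, comp_zero]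

/-- `coker (A ⟶ F ⟶ F/S) ≅ F / (S ⊔ im ι)` -/
noncomputable def cokernelCompIso :
    cokernel (ι ≫ cokernel.π S.arrow) ≅ cokernel (S ⊔ imageSubobject ι).arrow where
  hom := cokernel.desc _ (cokerMap (le_sup_left : S ≤ S ⊔ imageSubobject ι)) (by
    rw [Category.assoc, π_cokerMap, comp_cokernel_π_sup])
  inv := cokernel.desc _ (cokernel.π S.arrow ≫ cokernel.π (ι ≫ cokernel.π S.arrow)) (by
    apply arrow_comp_eq_zero_of_le_kernel
    refine sup_le ?_ ?_
    · apply le_kernelSubobject_of_arrow_comp
      rw [cokernel.condition_assoc, zero_comp]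
    · apply imageSubobject_le_kernelSubobject
      rw [← Category.assoc, cokernel.condition])
  hom_inv_id := by
    refine (cancel_epi (cokernel.π (ι ≫ cokernel.π S.arrow))).1 ?_
    rw [cokernel.π_desc_assoc, Category.comp_id]
    refine (cancel_epi (cokernel.π S.arrow)).1 ?_
    rw [π_cokerMap_assoc, cokernel.π_desc]
  inv_hom_id := by
    refine (cancel_epi (cokernel.π (S ⊔ imageSubobject ι).arrow)).1 ?_
    rw [cokernel.π_desc_assoc, Category.assoc, cokernel.π_desc, π_cokerMap, Category.comp_id]

/-- the short exact sequence `0 ⟶ im β ⟶ B ⟶ coker β ⟶ 0` -/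
lemma shortExact_image_cokernel {A B : 𝒜} (β : A ⟶ B) :
    (ShortComplex.mk (kernel.ι (cokernel.π β)) (cokernel.π β) (kernel.condition _)).ShortExact :=
  { exact := ShortComplex.exact_of_f_is_kernel _ (kernelIsKernel _)
    mono_f := inferInstanceAs (Mono (kernel.ι (cokernel.π β)))
    epi_g := inferInstanceAs (Epi (cokernel.π β)) }

/-- `A / ι⁻¹ S ≅ im (A ⟶ F/S)` -/
noncomputable def quotPullbackIso :
    cokernel ((Subobject.pullback ι).obj S).arrow ≅ kernel (cokernel.π (ι ≫ cokernel.π S.arrow)) := by
  rw [← kernelSubobject_comp_cokernel_π]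
  have h : (kernelSubobject (ι ≫ cokernel.π S.arrow)).arrow =
      (kernelSubobjectIso _).hom ≫ kernel.ι _ := by rw [kernelSubobject_arrow]
  exact cokernelIsoOfEq h ≪≫ cokernelEpiComp _ _ ≪≫
    Abelian.coimageIsoImage (ι ≫ cokernel.π S.arrow)

/-- if `A/ι⁻¹S` and `F/(S ⊔ im ι)` are in the class, so is `F/S` -/
lemma quot_mem_of_pullback_of_sup (hP : DevClass P)
    (h1 : P (cokernel ((Subobject.pullback ι).obj S).arrow))
    (h2 : P (cokernel (S ⊔ imageSubobject ι).arrow)) : P (cokernel S.arrow) :=
  hP.ext (shortExact_image_cokernel (ι ≫ cokernel.π S.arrow))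
    (hP.iso (quotPullbackIso ι S) h1) (hP.iso (cokernelCompIso ι S).symm h2)

/-- if `A/ι⁻¹S` and `F/S` are in the class, so is `F/(S ⊔ im ι)` -/
lemma quot_sup_mem_of_pullback (hP : DevClass P)
    (h1 : P (cokernel ((Subobject.pullback ι).obj S).arrow))
    (h2 : P (cokernel S.arrow)) : P (cokernel (S ⊔ imageSubobject ι).arrow) :=
  hP.iso (cokernelCompIso ι S) (hP.coker (shortExact_image_cokernel (ι ≫ cokernel.π S.arrow))
    (hP.iso (quotPullbackIso ι S) h1) h2)

end Beta

end Groth.Agent.Lib.Helper80.GV
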