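import Groth.Agent.Lib.Helper80.GV.SubStalk
import Groth.Agent.Lib.Helper80.GV.Devissage
import Mathlib.GroupTheory.Archimedean
import Mathlib.Topology.Spectral.Prespectral
import Mathlib.Topology.QuasiSeparated

/-!
# Quotients of `ℤ_U` by finitely generated subsheaves (helper80)
-/

set_option autoImplicit false
universe u

open CategoryTheory CategoryTheory.Limits TopologicalSpace Opposite

namespace Groth.Agent.Lib.Helper80.GV

open Groth.Agent.Lib.Helper4

variable {X : TopCat.{u}}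

/-- the coordinate `ℤ → (ℤ_U)_x` for `x ∈ U` -/
noncomputable def cZ (U : Opens X) (x : X) (hx : x ∈ U) : ℤ →+ (St x).obj (G U) :=
  zmultiplesHom _ (e U x hx)

lemma cZ_apply (U : Opens X) (x : X) (hx : x ∈ U) (n : ℤ) : cZ U x hx n = n • e U x hx :=
  zmultiplesHom_apply _ _ n

lemma cZ_surjective (U : Opens X) (x : X) (hx : x ∈ U) : Function.Surjective (cZ U x hx) := by
  intro v
  obtain ⟨n, rfl⟩ := St_G_eq_zsmul U x hx v
  exact ⟨n, cZ_apply U x hx n⟩

lemma cZ_injective (U : Opens X) (x : X) (hx : x ∈ U) : Function.Injective (cZ U x hx) := by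
  rw [injective_iff_map_eq_zero]
  intro n hn
  rw [cZ_apply] at hn
  exact zsmul_e_eq_zero U x hx n hn

lemma St_ιG_cZ {V U : Opens X} (h : V ≤ U) (x : X) (hx : x ∈ V) (n : ℤ) :
    ((St x).map (ιG h)).hom (cZ V x hx n) = cZ U x (h hx) n := by
  rw [cZ_apply, cZ_apply, map_zsmul, St_ιG_e]

lemma St_zsmul_apply {A B : CohTop.Ab X} (f : A ⟶ B) (n : ℤ) (x : X) (v : (St x).obj A) :
    ((St x).map (n • f)).hom v = n • ((St x).map f).hom v := by
  rw [Functor.map_zsmul]
  rfl

/-- the basic subsheaf `n ℤ_{W ∩ U} ⊆ ℤ_U` -/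
noncomputable def bG (U W : Opens X) (n : ℤ) : Subobject (G U) :=
  imageSubobject (n • ιG (inf_le_right : W ⊓ U ≤ U))

lemma sr_bG_of_mem (U W : Opens X) (n : ℤ) (x : X) (hx : x ∈ U) (hxW : x ∈ W) :
    sr x (bG U W n) = (AddSubgroup.zmultiples n).map (cZ U x hx) := by
  unfold bG
  rw [sr_image]
  ext v
  constructor
  · rintro ⟨w, rfl⟩
    obtain ⟨m, rfl⟩ := cZ_surjective (W ⊓ U) x ⟨hxW, hx⟩ w
    rw [St_zsmul_apply, St_ιG_cZ, ← map_zsmul]
    refine ⟨n • m, ?_, rfl⟩
    rw [smul_eq_mul, mul_comm]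
    exact ⟨m, rfl⟩
  · rintro ⟨k, ⟨m, rfl⟩, rfl⟩
    refine ⟨cZ (W ⊓ U) x ⟨hxW, hx⟩ m, ?_⟩
    rw [St_zsmul_apply, St_ιG_cZ, ← map_zsmul]
    congr 1
    change n • m = m • n
    rw [smul_eq_mul, smul_eq_mul, mul_comm]

lemma sr_bG_of_notMem (U W : Opens X) (n : ℤ) (x : X) (hxW : x ∉ W) :
    sr x (bG U W n) = ⊥ := by
  unfold bG
  rw [sr_image, eq_bot_iff]
  rintro v ⟨w, rfl⟩
  rw [St_G_eq_zero (W ⊓ U) x (fun h => hxW h.1) w, map_zero]
  exact AddSubgroup.zero_mem _

/-- the subsheaf generated by finitely many basic subsheaves -/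
noncomputable def SG (U : Opens X) (L : Finset (Opens X × ℤ)) : Subobject (G U) :=
  L.sup (fun t => bG U t.1 t.2)

/-- the stalk of `SG U L` in coordinates -/
def DL (L : Finset (Opens X × ℤ)) (x : X) : AddSubgroup ℤ :=
  AddSubgroup.closure {n : ℤ | ∃ W : Opens X, (W, n) ∈ L ∧ x ∈ W}

lemma sr_SG (U : Opens X) (L : Finset (Opens X × ℤ)) (x : X) (hx : x ∈ U) :
    sr x (SG U L) = (DL L x).map (cZ U x hx) := by
  unfold SG
  rw [sr_finset_sup]
  apply le_antisymm
  · refine Finset.sup_le fun t ht => ?_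
    by_cases hxW : x ∈ t.1
    · rw [sr_bG_of_mem U t.1 t.2 x hx hxW]
      refine AddSubgroup.map_mono ?_
      rw [AddSubgroup.zmultiples_le]
      exact AddSubgroup.subset_closure ⟨t.1, ht, hxW⟩
    · rw [sr_bG_of_notMem U t.1 t.2 x hxW]
      exact bot_le
  · unfold DL
    rw [AddMonoidHom.map_closure, AddSubgroup.closure_le]
    rintro _ ⟨n, ⟨W, hW, hxW⟩, rfl⟩
    have h1 : sr x (bG U W n) ≤ L.sup (fun t => sr x (bG U t.1 t.2)) :=
      Finset.le_sup (f := fun t : Opens X × ℤ => sr x (bG U t.1 t.2)) (b := (W, n)) hW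
    have h2 : cZ U x hx n ∈ sr x (bG U W n) := by
      rw [sr_bG_of_mem U W n x hx hxW]
      exact ⟨n, AddSubgroup.mem_zmultiples n, rfl⟩
    exact h1 h2

lemma St_G_subsingleton (U : Opens X) (x : X) (hx : x ∉ U) (A B : AddSubgroup ((St x).obj (G U))) :
    A = B := by
  ext v
  rw [St_G_eq_zero U x hx v]
  exact ⟨fun _ => B.zero_mem, fun _ => A.zero_mem⟩

/-- restriction of `SG U L` to a smaller open -/
lemma pullback_SG {U' U : Opens X} (h : U' ≤ U) (L : Finset (Opens X × ℤ)) :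
    (Subobject.pullback (ιG h)).obj (SG U L) = SG U' L := by
  apply eq_of_sr_eq
  intro x
  by_cases hx : x ∈ U'
  · rw [sr_pullback, sr_SG U L x (h hx), sr_SG U' L x hx]
    ext v
    obtain ⟨m, rfl⟩ := cZ_surjective U' x hx v
    rw [AddSubgroup.mem_comap, St_ιG_cZ]
    constructor
    · rintro ⟨k, hk, hk'⟩
      rw [cZ_injective U x (h hx) hk'] at hk
      exact ⟨m, hk, rfl⟩
    · rintro ⟨k, hk, hk'⟩
      rw [cZ_injective U' x hx hk'] at hk
      exact ⟨m, hk, rfl⟩
  · exact St_G_subsingleton U' x hx _ _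

section Claim

variable {P : CohTop.Ab X → Prop}

lemma DL_of_full (U : Opens X) (L : Finset (Opens X × ℤ)) (hfull : ∀ t ∈ L, U ≤ t.1) (x : X)
    (hx : x ∈ U) : DL L x = AddSubgroup.closure {n : ℤ | ∃ W : Opens X, (W, n) ∈ L} := by
  unfold DL
  congr 1
  ext n
  constructor
  · rintro ⟨W, hW, _⟩
    exact ⟨W, hW⟩
  · rintro ⟨W, hW⟩
    exact ⟨W, hW, hfull _ hW hx⟩

lemma SG_of_full (U : Opens X) (L : Finset (Opens X × ℤ)) (hfull : ∀ t ∈ L, U ≤ t.1) :
    ∃ g : ℤ, SG U L = imageSubobject (g • 𝟙 (G U)) := by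
  obtain ⟨g, hg⟩ := Int.subgroup_cyclic (AddSubgroup.closure {n : ℤ | ∃ W : Opens X, (W, n) ∈ L})
  refine ⟨g, eq_of_sr_eq fun x => ?_⟩
  by_cases hx : x ∈ U
  · rw [sr_SG U L x hx, DL_of_full U L hfull x hx, hg, sr_image, ← AddSubgroup.zmultiples_eq_closure]
    ext v
    obtain ⟨m, rfl⟩ := cZ_surjective U x hx v
    constructor
    · rintro ⟨k, ⟨j, rfl⟩, hk⟩
      refine ⟨cZ U x hx j, ?_⟩
      rw [St_zsmul_id, ← map_zsmul, ← hk]
      congr 1
      change g • j = j • g
      rw [smul_eq_mul, smul_eq_mul, mul_comm]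
    · rintro ⟨w, hw⟩
      obtain ⟨j, rfl⟩ := cZ_surjective U x hx w
      rw [St_zsmul_id, ← map_zsmul] at hw
      rw [← hw]
      refine ⟨g • j, ⟨j, ?_⟩, rfl⟩
      change j • g = g • j
      rw [smul_eq_mul, smul_eq_mul, mul_comm]
  · exact St_G_subsingleton U x hx _ _

lemma base_case (hP : DevClass P) (U : Opens X) (hPU : P (G U)) (L : Finset (Opens X × ℤ))
    (hfull : ∀ t ∈ L, U ≤ t.1) : P (cokernel (SG U L).arrow) := by
  obtain ⟨g, hg⟩ := SG_of_full U L hfull
  rw [hg]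
  refine hP.iso (cokernelImageSubobjectIso (g • 𝟙 (G U))).symm ?_
  by_cases h0 : g = 0
  · rw [h0, zero_smul]
    exact hP.iso cokernelZeroIsoTarget.symm hPU
  · haveI : Mono (g • 𝟙 (G U)) := mono_zsmul_id U g h0
    let Sc : ShortComplex (CohTop.Ab X) :=
      ShortComplex.mk (g • 𝟙 (G U)) (cokernel.π _) (cokernel.condition _)
    have hSc : Sc.ShortExact :=
      { exact := ShortComplex.exact_of_g_is_cokernel _ (cokernelIsCokernel _)
        mono_f := inferInstanceAs (Mono (g • 𝟙 (G U)))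
        epi_g := inferInstanceAs (Epi (cokernel.π (g • 𝟙 (G U)))) }
    exact hP.coker hSc hPU hPU

open Classical in
/-- the number of generators which are not full over `U` -/
noncomputable def mU (U : Opens X) (L : Finset (Opens X × ℤ)) : ℕ :=
  (L.filter (fun t => ¬ U ≤ t.1)).card

lemma mU_erase_lt [DecidableEq (Opens X × ℤ)] (U : Opens X) (L : Finset (Opens X × ℤ))
    (t₀ : Opens X × ℤ) (h₀ : t₀ ∈ L)
    (h₁ : ¬ U ≤ t₀.1) : mU U (L.erase t₀) < mU U L := by
  classical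
  unfold mU
  rw [Finset.filter_erase]
  exact Finset.card_erase_lt_of_mem (Finset.mem_filter.2 ⟨h₀, h₁⟩)

lemma mU_mono (U' U : Opens X) (h : U' ≤ U) (L : Finset (Opens X × ℤ)) : mU U' L ≤ mU U L := by
  classical
  unfold mU
  refine Finset.card_le_card (Finset.monotone_filter_right L ?_)
  intro t _ ht hU
  exact ht (h.trans hU)

lemma mU_inf_lt (U : Opens X) (L : Finset (Opens X × ℤ)) (t₀ : Opens X × ℤ) (h₀ : t₀ ∈ L)
    (h₁ : ¬ U ≤ t₀.1) : mU (t₀.1 ⊓ U) L < mU U L := by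
  classical
  unfold mU
  refine lt_of_le_of_lt (Finset.card_le_card ?_)
    (Finset.card_erase_lt_of_mem (Finset.mem_filter.2 ⟨h₀, h₁⟩))
  intro t ht
  rw [Finset.mem_filter] at ht
  rw [Finset.mem_erase, Finset.mem_filter]
  refine ⟨?_, ht.1, fun hU => ht.2 (inf_le_right.trans hU)⟩
  rintro rfl
  exact ht.2 inf_le_left

lemma bG_le_image (U V : Opens X) (n : ℤ) :
    bG U V n ≤ imageSubobject (ιG (inf_le_right : V ⊓ U ≤ U)) := by
  unfold bG
  refine imageSubobject_le _ ((n • 𝟙 _) ≫ factorThruImageSubobject _) ?_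
  rw [Category.assoc, imageSubobject_arrow_comp, Preadditive.zsmul_comp, Category.id_comp]

theorem claim [QuasiSeparatedSpace X] (hP : DevClass P)
    (hPG : ∀ U : Opens X, IsCompact (U : Set X) → P (G U)) :
    ∀ (m : ℕ) (U : Opens X) (L : Finset (Opens X × ℤ)), IsCompact (U : Set X) →
      (∀ t ∈ L, IsCompact (t.1 : Set X)) → mU U L < m → P (cokernel (SG U L).arrow) := by
  classical
  intro m
  induction m with
  | zero => intro U L _ _ h; exact absurd h (Nat.not_lt_zero _)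
  | succ m ih =>
    intro U L hU hL hm
    by_cases hfull : ∀ t ∈ L, U ≤ t.1
    · exact base_case hP U (hPG U hU) L hfull
    · push Not at hfull
      obtain ⟨t₀, h₀, h₁⟩ := hfull
      have hU' : IsCompact ((t₀.1 ⊓ U : Opens X) : Set X) :=
        QuasiSeparatedSpace.inter_isCompact _ _ t₀.1.2 (hL t₀ h₀) U.2 hU
      have hL' : ∀ t ∈ L.erase t₀, IsCompact (t.1 : Set X) :=
        fun t ht => hL t (Finset.mem_of_mem_erase ht)
      have hSG : SG U L = SG U (L.erase t₀) ⊔ bG U t₀.1 t₀.2 := by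
        unfold SG
        conv_lhs => rw [← Finset.insert_erase h₀]
        rw [Finset.sup_insert, sup_comm]
      have hsup : SG U L ⊔ imageSubobject (ιG (inf_le_right : t₀.1 ⊓ U ≤ U)) =
          SG U (L.erase t₀) ⊔ imageSubobject (ιG (inf_le_right : t₀.1 ⊓ U ≤ U)) := by
        rw [hSG, sup_assoc, sup_eq_right.2 (bG_le_image U t₀.1 t₀.2)]
      have hlt1 := mU_erase_lt U L t₀ h₀ h₁
      have hlt2 := mU_inf_lt U L t₀ h₀ h₁
      have hle3 := mU_mono (t₀.1 ⊓ U) U inf_le_right (L.erase t₀)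
      have A1 : P (cokernel ((Subobject.pullback (ιG (inf_le_right : t₀.1 ⊓ U ≤ U))).obj
          (SG U (L.erase t₀))).arrow) := by
        rw [pullback_SG]
        exact ih _ _ hU' hL' (by omega)
      have A2 : P (cokernel (SG U (L.erase t₀)).arrow) := ih _ _ hU hL' (by omega)
      have A3 := quot_sup_mem_of_pullback (ιG (inf_le_right : t₀.1 ⊓ U ≤ U))
        (SG U (L.erase t₀)) hP A1 A2
      have A4 : P (cokernel ((Subobject.pullback (ιG (inf_le_right : t₀.1 ⊓ U ≤ U))).obj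
          (SG U L)).arrow) := by
        rw [pullback_SG]
        exact ih _ _ hU' hL (by omega)
      rw [← hsup] at A3
      exact quot_mem_of_pullback_of_sup (ιG (inf_le_right : t₀.1 ⊓ U ≤ U)) (SG U L) hP A4 A3

end Claim

section Generation

lemma res_res (F : CohTop.Ab X) {W W' W'' : Opens X} (h1 : W' ≤ W) (h2 : W'' ≤ W')
    (s : F.obj.obj (op W)) :
    F.obj.map (homOfLE h2).op (F.obj.map (homOfLE h1).op s) =
      F.obj.map (homOfLE (h2.trans h1)).op s := by
  rw [← ConcreteCategory.comp_apply, ← Functor.map_comp]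
  rfl

lemma genRes_res (U : Opens X) {W W' : Opens X} (h1 : W ≤ U) (h2 : W' ≤ W) :
    (G U).obj.map (homOfLE h2).op (genRes U h1) = genRes U (h2.trans h1) :=
  res_res (G U) h1 h2 (gen U)

lemma ZUev_add (W : Opens X) (F : CohTop.Ab X) (f g : G W ⟶ F) :
    ZUev W F (f + g) = ZUev W F f + ZUev W F g := by
  unfold ZUev
  rw [Sheaf.Hom.add_app]
  rfl

lemma ZUev_zsmul (W : Opens X) (F : CohTop.Ab X) (n : ℤ) (f : G W ⟶ F) :
    ZUev W F (n • f) = n • ZUev W F f :=
  map_zsmul (AddMonoidHom.mk' (ZUev W F) (ZUev_add W F)) n f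

lemma bG_eq_of_le {U W : Opens X} (h : W ≤ U) (n : ℤ) :
    bG U W n = imageSubobject (n • ιG h) := by
  have key : ∀ (V : Opens X) (_ : V = W) (h' : V ≤ U),
      imageSubobject (n • ιG h') = imageSubobject (n • ιG h) := by
    intro V e h'
    subst e
    rfl
  exact key (W ⊓ U) (inf_eq_left.2 h) inf_le_right

lemma exists_compact_open [PrespectralSpace X] (x : X) (W : Opens X) (hx : x ∈ W) :
    ∃ W' : Opens X, IsCompact (W' : Set X) ∧ x ∈ W' ∧ W' ≤ W := by
  obtain ⟨v, ⟨hv1, hv2⟩, hxv, hvW⟩ :=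
    (PrespectralSpace.isTopologicalBasis (X := X)).exists_subset_of_mem_open hx W.2
  exact ⟨⟨v, hv1⟩, hv2, hxv, hvW⟩

/-- every subsheaf of `ℤ_U` is the supremum of the basic subsheaves it contains -/
lemma le_of_basic_le [PrespectralSpace X] (U : Opens X) (K N : Subobject (G U))
    (hN : ∀ t : {W : Opens X // IsCompact (W : Set X)} × ℤ, bG U t.1.1 t.2 ≤ K →
      bG U t.1.1 t.2 ≤ N) : K ≤ N := by
  apply le_of_sr_le
  intro x v hv
  by_cases hx : x ∈ U
  · obtain ⟨w, rfl⟩ := hv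
    obtain ⟨W, hxW, s, rfl⟩ := gm_surj _ x w
    rw [St_map_gm]
    obtain ⟨W', hW', hxW', ⟨hWU, n, h⟩ | ⟨_, h⟩⟩ :=
      exists_local_form U ((K.arrow.hom.app (op W)).hom s) x hxW
    · obtain ⟨W'', hW''c, hxW'', hW''⟩ := exists_compact_open x W' hxW'
      obtain ⟨φ, hφ⟩ := (ZUev_bijective W'' (K : CohTop.Ab X)).2
        ((K : CohTop.Ab X).obj.map (homOfLE (hW''.trans hW')).op s)
      have hs'' : (G U).obj.map (homOfLE (hW''.trans hW')).op ((K.arrow.hom.app (op W)).hom s) =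
          n • genRes U (hW''.trans hWU) := by
        rw [← res_res (G U) hW' hW'', h, map_zsmul, genRes_res]
      have hcomp : φ ≫ K.arrow = n • ιG (hW''.trans hWU) := by
        apply (ZUev_bijective W'' (G U)).1
        rw [ZUev_comp, hφ, ZUev_zsmul, ZUev_ιG, ← hs'']
        exact NatTrans.naturality_apply K.arrow.hom (homOfLE (hW''.trans hW')).op s
      have hle : bG U W'' n ≤ K := by
        rw [bG_eq_of_le (hW''.trans hWU)]
        exact imageSubobject_le _ φ hcomp
      refine sr_mono x (hN (⟨W'', hW''c⟩, n) hle) ?_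
      change _ ∈ sr x (bG U W'' n)
      rw [sr_bG_of_mem U W'' n x hx hxW'']
      refine ⟨n, AddSubgroup.mem_zmultiples n, ?_⟩
      rw [cZ_apply, ← gm_res (G U) (hW''.trans hW') x hxW'', hs'', map_zsmul, gm_genRes]
    · have h0 : gm (G U) W x hxW ((K.arrow.hom.app (op W)).hom s) = 0 := by
        rw [← gm_res (G U) hW' x hxW', h, map_zero]
      rw [h0]
      exact AddSubgroup.zero_mem _
  · rw [St_G_eq_zero U x hx v]
    exact AddSubgroup.zero_mem _

/-- the sheaves `ℤ_W`, `W` quasi-compact open, generate -/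
lemma generate [PrespectralSpace X] (F : CohTop.Ab X) (S : Subobject F)
    (h : ∀ (i : {W : Opens X // IsCompact (W : Set X)}) (f : G i.1 ⟶ F), imageSubobject f ≤ S) :
    S = ⊤ := by
  rw [eq_top_iff]
  apply le_of_sr_le
  intro x v _
  obtain ⟨W, hxW, s, rfl⟩ := gm_surj F x v
  obtain ⟨W', hW'c, hxW', hW'⟩ := exists_compact_open x W hxW
  obtain ⟨φ, hφ⟩ := (ZUev_bijective W' F).2 (F.obj.map (homOfLE hW').op s)
  refine sr_mono x (h ⟨W', hW'c⟩ φ) ?_
  rw [sr_image]
  refine ⟨e W' x hxW', ?_⟩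
  rw [St_map_e, hφ, gm_res]

end Generation

/-- **Dévissage for abelian sheaves on a spectral-like space**: a class of abelian sheaves closed
under isomorphisms, extensions, cokernels of monomorphisms and directed colimits which contains
zero objects and the sheaves `ℤ_U` for `U` quasi-compact open contains all abelian sheaves. -/
theorem sheaf_devissage [PrespectralSpace X] [QuasiSeparatedSpace X] {P : CohTop.Ab X → Prop}
    (hP : DevClass P) (hzero : ∀ Z : CohTop.Ab X, IsZero Z → P Z)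
    (hPG : ∀ U : Opens X, IsCompact (U : Set X) → P (G U)) (F : CohTop.Ab X) : P F := by
  classical
  refine devissage hP hzero (I := {W : Opens X // IsCompact (W : Set X)}) (fun i => G i.1)
    generate ?_ F
  intro i K
  refine quot_of_basic' hP (G i.1) (T := {W : Opens X // IsCompact (W : Set X)} × ℤ)
    (fun t => bG i.1 t.1.1 t.2) (le_of_basic_le i.1) ?_ K
  intro B
  have hB : B.sup (fun t => bG i.1 t.1.1 t.2) =
      SG i.1 (B.image (fun t => ((t.1.1, t.2) : Opens X × ℤ))) := by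
    unfold SG
    rw [Finset.sup_image]
    rfl
  rw [hB]
  refine claim hP hPG _ i.1 _ i.2 ?_ (Nat.lt_succ_self _)
  intro t ht
  rw [Finset.mem_image] at ht
  obtain ⟨t', _, rfl⟩ := ht
  exact t'.1.2

end Groth.Agent.Lib.Helper80.GV
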