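import Mathlib.Algebra.Homology.DerivedCategory.Ext.ExactSequences

/-!
# Mayer–Vietoris type consequences of the long exact `Ext` sequence (helper80)

For a short exact sequence `0 ⟶ X₁ ⟶ A ⊞ B ⟶ X₃ ⟶ 0` in an abelian category.
-/

set_option autoImplicit false
universe w v u

open CategoryTheory CategoryTheory.Limits Abelian

namespace Groth.Agent.Lib.Helper80.GV

variable {C : Type u} [Category.{v} C] [Abelian C] [HasExt.{w} C]

section Pairs

variable {A B F : C}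

/-- pairing of `Ext` classes on a biproduct -/
noncomputable def pr {n : ℕ} (a : Ext A F n) (b : Ext B F n) : Ext (A ⊞ B) F n :=
  (Ext.mk₀ biprod.fst).comp a (zero_add n) + (Ext.mk₀ biprod.snd).comp b (zero_add n)

lemma inl_pr {n : ℕ} (a : Ext A F n) (b : Ext B F n) :
    (Ext.mk₀ biprod.inl).comp (pr a b) (zero_add n) = a := by
  unfold pr
  rw [Ext.comp_add, Ext.mk₀_comp_mk₀_assoc, Ext.mk₀_comp_mk₀_assoc, biprod.inl_fst, biprod.inl_snd,
    Ext.mk₀_id_comp, Ext.mk₀_zero, Ext.zero_comp, add_zero]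

lemma inr_pr {n : ℕ} (a : Ext A F n) (b : Ext B F n) :
    (Ext.mk₀ biprod.inr).comp (pr a b) (zero_add n) = b := by
  unfold pr
  rw [Ext.comp_add, Ext.mk₀_comp_mk₀_assoc, Ext.mk₀_comp_mk₀_assoc, biprod.inr_fst, biprod.inr_snd,
    Ext.mk₀_id_comp, Ext.mk₀_zero, Ext.zero_comp, zero_add]

lemma lift_pr {D : C} (f : D ⟶ A) (g : D ⟶ B) {n : ℕ} (a : Ext A F n) (b : Ext B F n) :
    (Ext.mk₀ (biprod.lift f g)).comp (pr a b) (zero_add n) =
      (Ext.mk₀ f).comp a (zero_add n) + (Ext.mk₀ g).comp b (zero_add n) := by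
  unfold pr
  rw [Ext.comp_add, Ext.mk₀_comp_mk₀_assoc, Ext.mk₀_comp_mk₀_assoc, biprod.lift_fst,
    biprod.lift_snd]

lemma ext_biprod_eq_zero {n : ℕ} (x : Ext (A ⊞ B) F n)
    (h₁ : (Ext.mk₀ biprod.inl).comp x (zero_add n) = 0)
    (h₂ : (Ext.mk₀ biprod.inr).comp x (zero_add n) = 0) : x = 0 := by
  rw [← Ext.mk₀_id_comp x, ← biprod.total, Ext.mk₀_add, Ext.add_comp,
    ← Ext.mk₀_comp_mk₀_assoc, ← Ext.mk₀_comp_mk₀_assoc, h₁, h₂, Ext.comp_zero, Ext.comp_zero,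
    add_zero]

/-- `Ext` out of a zero object vanishes -/
lemma ext_eq_zero_of_isZero (hA : IsZero A) {n : ℕ} (x : Ext A F n) : x = 0 := by
  rw [← Ext.mk₀_id_comp x, hA.eq_of_src (𝟙 A) 0, Ext.mk₀_zero, Ext.zero_comp]

end Pairs

section MV

variable {X₁ A B X₃ : C} (iA : X₁ ⟶ A) (iB : X₁ ⟶ B) (jA : A ⟶ X₃) (jB : B ⟶ X₃)
  (w : iA ≫ jA = iB ≫ jB)

/-- the Mayer–Vietoris short complex `X₁ ⟶ A ⊞ B ⟶ X₃` -/
noncomputable abbrev mvShort : ShortComplex C :=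
  ShortComplex.mk (biprod.lift iA (-iB)) (biprod.desc jA jB) (by
    rw [biprod.lift_desc, Preadditive.neg_comp, w, add_neg_cancel])

variable {iA iB jA jB w} {F : C}

theorem mv_glue (hS : (mvShort iA iB jA jB w).ShortExact) {n : ℕ} (a : Ext A F n) (b : Ext B F n)
    (h : (Ext.mk₀ iA).comp a (zero_add n) = (Ext.mk₀ iB).comp b (zero_add n)) :
    ∃ c : Ext X₃ F n, (Ext.mk₀ jA).comp c (zero_add n) = a ∧
      (Ext.mk₀ jB).comp c (zero_add n) = b := by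
  have h0 : (Ext.mk₀ (mvShort iA iB jA jB w).f).comp (pr a b) (zero_add n) = 0 := by
    change (Ext.mk₀ (biprod.lift iA (-iB))).comp (pr a b) (zero_add n) = 0
    rw [lift_pr, Ext.mk₀_neg, Ext.neg_comp, h, add_neg_cancel]
  obtain ⟨c, hc⟩ : ∃ c : Ext X₃ F n,
      (Ext.mk₀ (biprod.desc jA jB)).comp c (zero_add n) = pr a b :=
    Ext.contravariant_sequence_exact₂ hS F (pr a b) h0
  refine ⟨c, ?_, ?_⟩
  · have h1 : (Ext.mk₀ biprod.inl).comp ((Ext.mk₀ (biprod.desc jA jB)).comp c (zero_add n))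
        (zero_add n) = (Ext.mk₀ biprod.inl).comp (pr a b) (zero_add n) := by rw [hc]
    rw [Ext.mk₀_comp_mk₀_assoc, biprod.inl_desc, inl_pr] at h1
    exact h1
  · have h1 : (Ext.mk₀ biprod.inr).comp ((Ext.mk₀ (biprod.desc jA jB)).comp c (zero_add n))
        (zero_add n) = (Ext.mk₀ biprod.inr).comp (pr a b) (zero_add n) := by rw [hc]
    rw [Ext.mk₀_comp_mk₀_assoc, biprod.inr_desc, inr_pr] at h1
    exact h1

theorem mv_exists_delta (hS : (mvShort iA iB jA jB w).ShortExact) {n n' : ℕ} (hn : 1 + n = n')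
    (ξ : Ext X₃ F n') (h₁ : (Ext.mk₀ jA).comp ξ (zero_add n') = 0)
    (h₂ : (Ext.mk₀ jB).comp ξ (zero_add n') = 0) :
    ∃ η : Ext X₁ F n, hS.extClass.comp η hn = ξ := by
  have h0 : (Ext.mk₀ (mvShort iA iB jA jB w).g).comp ξ (zero_add n') = 0 := by
    change (Ext.mk₀ (biprod.desc jA jB)).comp ξ (zero_add n') = 0
    apply ext_biprod_eq_zero
    · rw [Ext.mk₀_comp_mk₀_assoc, biprod.inl_desc, h₁]
    · rw [Ext.mk₀_comp_mk₀_assoc, biprod.inr_desc, h₂]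
  exact Ext.contravariant_sequence_exact₃ hS F ξ h0 hn

variable {X₁' A' B' X₃' : C} {iA' : X₁' ⟶ A'} {iB' : X₁' ⟶ B'} {jA' : A' ⟶ X₃'} {jB' : B' ⟶ X₃'}
  {w' : iA' ≫ jA' = iB' ≫ jB'}

theorem mv_delta_vanish (hS : (mvShort iA iB jA jB w).ShortExact)
    (hS' : (mvShort iA' iB' jA' jB' w').ShortExact)
    (t₁ : X₁' ⟶ X₁) (tA : A' ⟶ A) (tB : B' ⟶ B) (t₃ : X₃' ⟶ X₃)
    (c1 : iA' ≫ tA = t₁ ≫ iA) (c2 : iB' ≫ tB = t₁ ≫ iB)
    (c3 : jA' ≫ t₃ = tA ≫ jA) (c4 : jB' ≫ t₃ = tB ≫ jB)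
    {n n' : ℕ} (hn : 1 + n = n') (η : Ext X₁ F n) (a' : Ext A' F n)
    (h : (Ext.mk₀ iA').comp a' (zero_add n) = (Ext.mk₀ t₁).comp η (zero_add n)) :
    (Ext.mk₀ t₃).comp (hS.extClass.comp η hn) (zero_add n') = 0 := by
  let φ : mvShort iA' iB' jA' jB' w' ⟶ mvShort iA iB jA jB w :=
    { τ₁ := t₁
      τ₂ := biprod.map tA tB
      τ₃ := t₃
      comm₁₂ := by
        change t₁ ≫ biprod.lift iA (-iB) = biprod.lift iA' (-iB') ≫ biprod.map tA tB
        apply biprod.hom_ext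
        · simp only [Category.assoc, biprod.map_fst, biprod.lift_fst_assoc, biprod.lift_fst, c1]
        · simp only [Category.assoc, biprod.map_snd, biprod.lift_snd_assoc, biprod.lift_snd,
            Preadditive.neg_comp, Preadditive.comp_neg, c2]
      comm₂₃ := by
        change biprod.map tA tB ≫ biprod.desc jA jB = biprod.desc jA' jB' ≫ t₃
        apply biprod.hom_ext'
        · simp only [biprod.inl_desc_assoc, biprod.inl_map_assoc, biprod.inl_desc, c3]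
        · simp only [biprod.inr_desc_assoc, biprod.inr_map_assoc, biprod.inr_desc, c4] }
  have nat : (hS'.extClass : Ext X₃' X₁' 1).comp (Ext.mk₀ t₁) (add_zero 1) =
      (Ext.mk₀ t₃).comp (hS.extClass : Ext X₃ X₁ 1) (zero_add 1) :=
    ShortComplex.ShortExact.extClass_naturality hS' hS φ
  have e3 : (Ext.mk₀ iA').comp a' (zero_add n) =
      (Ext.mk₀ (mvShort iA' iB' jA' jB' w').f).comp (pr a' 0) (zero_add n) := by
    change _ = (Ext.mk₀ (biprod.lift iA' (-iB'))).comp (pr a' 0) (zero_add n)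
    rw [lift_pr, Ext.comp_zero, add_zero]
  calc (Ext.mk₀ t₃).comp ((hS.extClass : Ext X₃ X₁ 1).comp η hn) (zero_add n')
      = ((Ext.mk₀ t₃).comp (hS.extClass : Ext X₃ X₁ 1) (zero_add 1)).comp η hn :=
        (Ext.comp_assoc (Ext.mk₀ t₃) (hS.extClass : Ext X₃ X₁ 1) η (zero_add 1) hn (by omega)).symm
    _ = ((hS'.extClass : Ext X₃' X₁' 1).comp (Ext.mk₀ t₁) (add_zero 1)).comp η hn :=
        congrArg (fun z : Ext X₃' X₁ 1 => z.comp η hn) nat.symm
    _ = (hS'.extClass : Ext X₃' X₁' 1).comp ((Ext.mk₀ t₁).comp η (zero_add n)) hn :=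
        Ext.comp_assoc_of_second_deg_zero _ _ _ hn
    _ = (hS'.extClass : Ext X₃' X₁' 1).comp
          ((Ext.mk₀ (mvShort iA' iB' jA' jB' w').f).comp (pr a' 0) (zero_add n)) hn := by
        rw [← h, e3]
    _ = 0 := ShortComplex.ShortExact.extClass_comp_assoc hS' _

end MV

end Groth.Agent.Lib.Helper80.GV
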