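import Groth.Prelude.Def_CohTop
import Groth.Agent.Lib.Helper4.FreeSheafSite
import Mathlib.Topology.Sheaves.Abelian
import Mathlib.CategoryTheory.Sites.LocallyBijective

/-!
# Stalks of the free abelian sheaves `ℤ_U` on a topological space (helper80)
-/

set_option autoImplicit false
universe u

open CategoryTheory CategoryTheory.Limits TopologicalSpace Opposite

namespace Groth.Agent.Lib.Helper80.GV

open Groth.Agent.Lib.Helper4

variable {X : TopCat.{u}}

/-- the stalk functor on abelian sheaves -/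
noncomputable def St (x : X) : CohTop.Ab X ⥤ AddCommGrpCat.{u} :=
  (TopCat.Sheaf.forget AddCommGrpCat.{u} X ⋙ TopCat.Presheaf.stalkFunctor AddCommGrpCat.{u} x :
    TopCat.Sheaf AddCommGrpCat.{u} X ⥤ AddCommGrpCat.{u})

noncomputable instance (x : X) : PreservesFiniteLimits (St x) :=
  inferInstanceAs (PreservesFiniteLimits
    (TopCat.Sheaf.forget AddCommGrpCat.{u} X ⋙ TopCat.Presheaf.stalkFunctor AddCommGrpCat.{u} x))

noncomputable instance (x : X) : PreservesFiniteColimits (St x) :=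
  inferInstanceAs (PreservesFiniteColimits
    (TopCat.Sheaf.forget AddCommGrpCat.{u} X ⋙ TopCat.Presheaf.stalkFunctor AddCommGrpCat.{u} x))

instance (x : X) : (St x).Additive :=
  inferInstanceAs (TopCat.Sheaf.forget AddCommGrpCat.{u} X ⋙
    TopCat.Presheaf.stalkFunctor AddCommGrpCat.{u} x).Additive

/-- the germ map -/
noncomputable def gm (F : CohTop.Ab X) (W : Opens X) (x : X) (hx : x ∈ W) :
    F.obj.obj (op W) →+ (St x).obj F :=
  (TopCat.Presheaf.germ F.obj W x hx).hom

lemma gm_res (F : CohTop.Ab X) {W W' : Opens X} (h : W' ≤ W) (x : X) (hx : x ∈ W')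
    (s : F.obj.obj (op W)) :
    gm F W' x hx (F.obj.map (homOfLE h).op s) = gm F W x (h hx) s :=
  TopCat.Presheaf.germ_res_apply F.obj (homOfLE h) x hx s

lemma gm_surj (F : CohTop.Ab X) (x : X) (v : (St x).obj F) :
    ∃ (W : Opens X) (hx : x ∈ W) (s : F.obj.obj (op W)), gm F W x hx s = v :=
  TopCat.Presheaf.exists_germ_eq F.obj v

lemma gm_eq (F : CohTop.Ab X) {W : Opens X} (x : X) (hx : x ∈ W) (s t : F.obj.obj (op W))
    (h : gm F W x hx s = gm F W x hx t) :
    ∃ (W' : Opens X) (hW' : W' ≤ W), x ∈ W' ∧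
      F.obj.map (homOfLE hW').op s = F.obj.map (homOfLE hW').op t := by
  obtain ⟨W', hxW', i1, i2, e⟩ := TopCat.Presheaf.germ_eq F.obj x hx hx s t h
  exact ⟨W', i1.le, hxW', e⟩

lemma St_map_gm {F G : CohTop.Ab X} (f : F ⟶ G) (W : Opens X) (x : X) (hx : x ∈ W)
    (s : F.obj.obj (op W)) :
    ((St x).map f).hom (gm F W x hx s) = gm G W x hx ((f.hom.app (op W)).hom s) :=
  TopCat.Presheaf.stalkFunctor_map_germ_apply W x hx f.hom s

/-- a morphism of sheaves is zero if it is zero on all stalks -/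
lemma hom_eq_zero_of_St {F G : CohTop.Ab X} (f : F ⟶ G) (h : ∀ x, (St x).map f = 0) : f = 0 := by
  ext W s
  induction W with | op W => ?_
  apply TopCat.Presheaf.section_ext (F := (G : TopCat.Sheaf AddCommGrpCat.{u} X)) W
  intro x hx
  have h1 := St_map_gm f W x hx s
  rw [h x] at h1
  change gm G W x hx ((f.hom.app (op W)).hom s) = gm G W x hx 0
  rw [← h1, map_zero]
  rfl

section FreeAb

lemma free_eq_zsmul {T : Type*} [Subsingleton T] (a : T) (t : FreeAbelianGroup T) :
    ∃ n : ℤ, t = n • FreeAbelianGroup.of a := by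
  induction t using FreeAbelianGroup.induction_on with
  | zero => exact ⟨0, by rw [zero_smul]⟩
  | of b => exact ⟨1, by rw [one_smul, Subsingleton.elim b a]⟩
  | neg b ih =>
    refine ⟨-1, ?_⟩
    rw [Subsingleton.elim b a, neg_smul, one_smul]
  | add b c hb hc =>
    obtain ⟨n, rfl⟩ := hb
    obtain ⟨m, rfl⟩ := hc
    exact ⟨n + m, by rw [add_smul]⟩

lemma free_eq_zero {T : Type*} [IsEmpty T] (t : FreeAbelianGroup T) : t = 0 := by
  induction t using FreeAbelianGroup.induction_on with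
  | zero => rfl
  | of b => exact isEmptyElim b
  | neg b _ => exact isEmptyElim b
  | add b c hb hc => rw [hb, hc, add_zero]

lemma free_zsmul_of_eq_zero {T : Type*} (a : T) (n : ℤ)
    (h : n • FreeAbelianGroup.of a = 0) : n = 0 := by
  have h1 := congrArg (FreeAbelianGroup.lift (fun _ : T => (1 : ℤ))) h
  rw [map_zsmul, FreeAbelianGroup.lift_apply_of, map_zero, smul_eq_mul, mul_one] at h1
  exact h1

end FreeAb

/-- the free abelian sheaf `ℤ_U` -/
noncomputable abbrev G (U : Opens X) : CohTop.Ab X := ZU (Opens.grothendieckTopology X) U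

/-- the canonical generator of `ℤ_U` over `U` -/
noncomputable def gen (U : Opens X) : (G U).obj.obj (op U) := ZUgen (Opens.grothendieckTopology X) U

/-- the canonical generator restricted to a smaller open -/
noncomputable def genRes (U : Opens X) {W : Opens X} (h : W ≤ U) : (G U).obj.obj (op W) :=
  (G U).obj.map (homOfLE h).op (gen U)

lemma toSheafify_of (U : Opens X) {W : Opens X} (h : W ≤ U) :
    ((toSheafify (Opens.grothendieckTopology X) (ZUpre U)).app (op W)).hom
      (FreeAbelianGroup.of (homOfLE h)) = genRes U h := by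
  have e2 : (ConcreteCategory.hom ((ZUpre U).map (homOfLE h).op)) (FreeAbelianGroup.of (𝟙 U)) =
      FreeAbelianGroup.of (homOfLE h) := by
    dsimp only [ZUpre, Functor.comp_map, AddCommGrpCat.free_map]
    erw [FreeAbelianGroup.map_of_apply]
    congr 1
  have h2 := NatTrans.naturality_apply (toSheafify (Opens.grothendieckTopology X) (ZUpre U))
    (homOfLE h).op (FreeAbelianGroup.of (𝟙 U))
  rw [e2] at h2
  exact h2

/-- local structure of the sections of `ℤ_U` -/
lemma exists_local_form (U : Opens X) {W : Opens X} (s : (G U).obj.obj (op W)) (x : X)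
    (hx : x ∈ W) :
    ∃ (W' : Opens X) (hW' : W' ≤ W), x ∈ W' ∧
      ((∃ (h : W' ≤ U) (n : ℤ), (G U).obj.map (homOfLE hW').op s = n • genRes U h) ∨
       (¬ W' ≤ U ∧ (G U).obj.map (homOfLE hW').op s = 0)) := by
  have hmem := Presheaf.imageSieve_mem (Opens.grothendieckTopology X)
    (toSheafify (Opens.grothendieckTopology X) (ZUpre U)) (U := op W) s
  obtain ⟨W', f, ⟨t, ht⟩, hxW'⟩ := hmem x hx
  refine ⟨W', f.le, hxW', ?_⟩
  have hf : f = homOfLE f.le := Subsingleton.elim _ _
  rw [hf] at ht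
  by_cases h : W' ≤ U
  · left
    refine ⟨h, ?_⟩
    haveI : Subsingleton (W' ⟶ U) := inferInstance
    obtain ⟨n, hn⟩ := free_eq_zsmul (homOfLE h) (t : FreeAbelianGroup (W' ⟶ U))
    refine ⟨n, ?_⟩
    rw [← toSheafify_of U h]
    erw [← ht, hn, map_zsmul]
  · right
    refine ⟨h, ?_⟩
    haveI : IsEmpty (W' ⟶ U) := ⟨fun g => h g.le⟩
    have ht0 := free_eq_zero (t : FreeAbelianGroup (W' ⟶ U))
    erw [← ht, ht0, map_zero]

/-- the germ of the canonical generator -/
noncomputable def e (U : Opens X) (x : X) (hx : x ∈ U) : (St x).obj (G U) :=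
  gm (G U) U x hx (gen U)

lemma gm_genRes (U : Opens X) {W : Opens X} (h : W ≤ U) (x : X) (hx : x ∈ W) :
    gm (G U) W x hx (genRes U h) = e U x (h hx) :=
  gm_res (G U) h x hx (gen U)

/-- the stalk of `ℤ_U` vanishes outside `U` -/
lemma St_G_eq_zero (U : Opens X) (x : X) (hx : x ∉ U) (v : (St x).obj (G U)) : v = 0 := by
  obtain ⟨W, hxW, s, rfl⟩ := gm_surj (G U) x v
  obtain ⟨W', hW', hxW', h | ⟨_, h⟩⟩ := exists_local_form U s x hxW
  · obtain ⟨hWU, _⟩ := h
    exact absurd (hWU hxW') hx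
  · rw [← gm_res (G U) hW' x hxW' s, h, map_zero]

/-- the stalk of `ℤ_U` at a point of `U` is generated by the germ of the generator -/
lemma St_G_eq_zsmul (U : Opens X) (x : X) (hx : x ∈ U) (v : (St x).obj (G U)) :
    ∃ n : ℤ, v = n • e U x hx := by
  obtain ⟨W, hxW, s, rfl⟩ := gm_surj (G U) x v
  obtain ⟨W', hW', hxW', ⟨hWU, n, h⟩ | ⟨_, h⟩⟩ := exists_local_form U s x hxW
  · refine ⟨n, ?_⟩
    rw [← gm_res (G U) hW' x hxW' s, h, map_zsmul, gm_genRes]
  · refine ⟨0, ?_⟩
    rw [← gm_res (G U) hW' x hxW' s, h, map_zero, zero_smul]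

/-- the germ of the generator is not torsion -/
lemma zsmul_e_eq_zero (U : Opens X) (x : X) (hx : x ∈ U) (n : ℤ) (h : n • e U x hx = 0) :
    n = 0 := by
  have h1 : gm (G U) U x hx (n • gen U) = gm (G U) U x hx 0 := by
    rw [map_zsmul, map_zero]
    exact h
  obtain ⟨W', hW', hxW', h2⟩ := gm_eq (G U) x hx _ _ h1
  rw [map_zsmul, map_zero] at h2
  change n • genRes U hW' = 0 at h2
  rw [← toSheafify_of U hW', ← map_zsmul] at h2
  have h3 : ((toSheafify (Opens.grothendieckTopology X) (ZUpre U)).app (op W'))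
      (n • FreeAbelianGroup.of (homOfLE hW') : FreeAbelianGroup (W' ⟶ U)) =
      ((toSheafify (Opens.grothendieckTopology X) (ZUpre U)).app (op W'))
        (0 : FreeAbelianGroup (W' ⟶ U)) := by
    erw [h2, map_zero]
  have hmem := Presheaf.equalizerSieve_mem (Opens.grothendieckTopology X)
    (toSheafify (Opens.grothendieckTopology X) (ZUpre U)) (X := op W') _ _ h3
  obtain ⟨W'', f, hf, _⟩ := hmem x hxW'
  change (ZUpre U).map f.op _ = (ZUpre U).map f.op _ at hf
  erw [map_zsmul, map_zero] at hf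
  dsimp only [ZUpre, Functor.comp_map, AddCommGrpCat.free_map] at hf
  erw [FreeAbelianGroup.map_of_apply] at hf
  exact free_zsmul_of_eq_zero _ n hf

/-- the value of a morphism `ℤ_U ⟶ F` on the germ of the generator -/
lemma St_map_e (U : Opens X) {F : CohTop.Ab X} (φ : G U ⟶ F) (x : X) (hx : x ∈ U) :
    ((St x).map φ).hom (e U x hx) = gm F U x hx (ZUev U F φ) :=
  St_map_gm φ U x hx (gen U)

/-- the canonical map `ℤ_V ⟶ ℤ_U` for `V ≤ U` -/
noncomputable def ιG {V U : Opens X} (h : V ≤ U) : G V ⟶ G U :=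
  ZUmap (Opens.grothendieckTopology X) (homOfLE h)

lemma ZUev_ιG {V U : Opens X} (h : V ≤ U) : ZUev V (G U) (ιG h) = genRes U h := by
  have h1 := ZUev_map (J := Opens.grothendieckTopology X) (homOfLE h) (G U) (𝟙 (G U))
  rw [Category.comp_id] at h1
  exact h1

lemma St_ιG_e {V U : Opens X} (h : V ≤ U) (x : X) (hx : x ∈ V) :
    ((St x).map (ιG h)).hom (e V x hx) = e U x (h hx) := by
  rw [St_map_e, ZUev_ιG, gm_genRes]

lemma mono_of_St_injective {F F' : CohTop.Ab X} (f : F ⟶ F')
    (h : ∀ x, Function.Injective ((St x).map f).hom) : Mono f := by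
  haveI : ∀ x, Mono ((TopCat.Presheaf.stalkFunctor AddCommGrpCat.{u} x).map f.hom) :=
    fun x => (AddCommGrpCat.mono_iff_injective _).2 (h x)
  exact TopCat.Presheaf.mono_of_stalk_mono (C := AddCommGrpCat.{u})
    (F := (F : TopCat.Sheaf AddCommGrpCat.{u} X)) (G := (F' : TopCat.Sheaf AddCommGrpCat.{u} X)) f

instance mono_ιG {V U : Opens X} (h : V ≤ U) : Mono (ιG h) := by
  apply mono_of_St_injective
  intro x
  rw [injective_iff_map_eq_zero]
  intro v hv
  by_cases hx : x ∈ V
  · obtain ⟨n, rfl⟩ := St_G_eq_zsmul V x hx v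
    rw [map_zsmul, St_ιG_e] at hv
    rw [zsmul_e_eq_zero U x (h hx) n hv, zero_smul]
  · exact St_G_eq_zero V x hx v

lemma St_zsmul_id (U : Opens X) (n : ℤ) (x : X) (v : (St x).obj (G U)) :
    ((St x).map (n • 𝟙 (G U))).hom v = n • v := by
  rw [Functor.map_zsmul, CategoryTheory.Functor.map_id]
  rfl

lemma mono_zsmul_id (U : Opens X) (n : ℤ) (hn : n ≠ 0) : Mono (n • 𝟙 (G U)) := by
  apply mono_of_St_injective
  intro x
  rw [injective_iff_map_eq_zero]
  intro v hv
  rw [St_zsmul_id] at hv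
  by_cases hx : x ∈ U
  · obtain ⟨m, rfl⟩ := St_G_eq_zsmul U x hx v
    rw [smul_smul] at hv
    have := zsmul_e_eq_zero U x hx _ hv
    rcases mul_eq_zero.1 this with h | h
    · exact absurd h hn
    · rw [h, zero_smul]
  · exact St_G_eq_zero U x hx v

end Groth.Agent.Lib.Helper80.GV
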