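import Groth.Agent.Lib.Helper80.GV.Noeth
import Groth.Agent.Lib.Helper80.GV.ExtMV

/-!
# The Mayer–Vietoris short exact sequence of free sheaves `ℤ_U` (helper80)
-/

set_option autoImplicit false
universe u

open CategoryTheory CategoryTheory.Limits TopologicalSpace Opposite Abelian

namespace Groth.Agent.Lib.Helper80.GV

open Groth.Agent.Lib.Helper4

variable {X : TopCat.{u}}

lemma ιG_comp {W V U : Opens X} (h₁ : W ≤ V) (h₂ : V ≤ U) :
    ιG h₁ ≫ ιG h₂ = ιG (h₁.trans h₂) := by
  apply (ZUev_bijective W (G U)).1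
  rw [ZUev_ιG]
  have h := ZUev_map (J := Opens.grothendieckTopology X) (homOfLE h₁) (G U) (ιG h₂)
  rw [ZUev_ιG] at h
  exact h.trans (genRes_res U h₂ h₁)

lemma ιG_refl (U : Opens X) : ιG (le_refl U) = 𝟙 (G U) := by
  apply (ZUev_bijective U (G U)).1
  rw [ZUev_ιG]
  change (G U).obj.map (𝟙 _) (gen U) = _
  rw [CategoryTheory.Functor.map_id]
  rfl

lemma isZero_G_of_eq_empty (U : Opens X) (hU : (U : Set X) = ∅) : IsZero (G U) := by
  refine isZero_of_St_eq_zero _ (fun x v => St_G_eq_zero U x ?_ v)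
  intro hx
  have : x ∈ (U : Set X) := hx
  rw [hU] at this
  exact this

lemma epi_of_St_surjective {A B : CohTop.Ab X} (f : A ⟶ B)
    (h : ∀ x, Function.Surjective ((St x).map f).hom) : Epi f :=
  Preadditive.epi_of_isZero_cokernel f
    (isZero_of_St_eq_zero _ (fun x v => coker_St_eq_zero f x (h x) v))

lemma St_add_apply (x : X) {A B : CohTop.Ab X} (f g : A ⟶ B) (v : (St x).obj A) :
    ((St x).map (f + g)).hom v = ((St x).map f).hom v + ((St x).map g).hom v := by
  rw [Functor.map_add]
  rfl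

lemma St_neg_apply (x : X) {A B : CohTop.Ab X} (f : A ⟶ B) (v : (St x).obj A) :
    ((St x).map (-f)).hom v = -((St x).map f).hom v := by
  rw [Functor.map_neg]
  rfl

/-- decomposition of an element of the stalk of a biproduct -/
lemma St_biprod_total (x : X) {A B : CohTop.Ab X} (v : (St x).obj (A ⊞ B)) :
    v = ((St x).map biprod.inl).hom (((St x).map biprod.fst).hom v) +
      ((St x).map biprod.inr).hom (((St x).map biprod.snd).hom v) := by
  rw [← St_comp_apply, ← St_comp_apply, ← St_add_apply, biprod.total, St_id_apply]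

section MVS

variable (A B : Opens X)

lemma mv_w : ιG (inf_le_left : A ⊓ B ≤ A) ≫ ιG (le_sup_left : A ≤ A ⊔ B) =
    ιG (inf_le_right : A ⊓ B ≤ B) ≫ ιG (le_sup_right : B ≤ A ⊔ B) := by
  rw [ιG_comp, ιG_comp]

/-- the Mayer–Vietoris short complex of free sheaves -/
noncomputable abbrev mvS : ShortComplex (CohTop.Ab X) :=
  mvShort (ιG (inf_le_left : A ⊓ B ≤ A)) (ιG (inf_le_right : A ⊓ B ≤ B))
    (ιG (le_sup_left : A ≤ A ⊔ B)) (ιG (le_sup_right : B ≤ A ⊔ B)) (mv_w A B)

lemma mvS_mono : Mono (mvS A B).f := by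
  have h : (mvS A B).f ≫ biprod.fst = ιG (inf_le_left : A ⊓ B ≤ A) := biprod.lift_fst _ _
  exact mono_of_mono_fac h

lemma mvS_epi : Epi (mvS A B).g := by
  apply epi_of_St_surjective
  intro x v
  by_cases hxA : x ∈ A
  · obtain ⟨w, rfl⟩ := St_ιG_surjective (le_sup_left : A ≤ A ⊔ B) x (Or.inl hxA) v
    refine ⟨((St x).map biprod.inl).hom w, ?_⟩
    rw [← St_comp_apply]
    congr 3
    exact biprod.inl_desc _ _
  · by_cases hxB : x ∈ B
    · obtain ⟨w, rfl⟩ := St_ιG_surjective (le_sup_right : B ≤ A ⊔ B) x (Or.inl hxB) v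
      refine ⟨((St x).map biprod.inr).hom w, ?_⟩
      rw [← St_comp_apply]
      congr 3
      exact biprod.inr_desc _ _
    · refine ⟨0, ?_⟩
      rw [map_zero, St_G_eq_zero (A ⊔ B) x (fun h => h.elim hxA hxB) v]

lemma mvS_exact : (mvS A B).Exact := by
  rw [ShortComplex.exact_iff_kernel_ι_comp_cokernel_π_zero]
  apply hom_eq_zero_of_St
  intro x
  ext w
  rw [St_comp_apply]
  set v := ((St x).map (kernel.ι (mvS A B).g)).hom w with hv
  have hgv : ((St x).map (mvS A B).g).hom v = 0 := by
    rw [hv, ← St_comp_apply, kernel.condition, St_zero_apply]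
  -- it suffices to find a preimage of `v` under `f`
  suffices hu : ∃ u, ((St x).map (mvS A B).f).hom u = v by
    obtain ⟨u, hu⟩ := hu
    rw [← hu, ← St_comp_apply, cokernel.condition, St_zero_apply]
    rfl
  have hfst : ∀ u, ((St x).map biprod.fst).hom (((St x).map (mvS A B).f).hom u) =
      ((St x).map (ιG (inf_le_left : A ⊓ B ≤ A))).hom u := by
    intro u
    rw [← St_comp_apply]
    congr 3
    exact biprod.lift_fst _ _
  have hsnd : ∀ u, ((St x).map biprod.snd).hom (((St x).map (mvS A B).f).hom u) =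
      -((St x).map (ιG (inf_le_right : A ⊓ B ≤ B))).hom u := by
    intro u
    rw [← St_comp_apply, ← St_neg_apply]
    congr 3
    exact biprod.lift_snd _ _
  have hg : ((St x).map (ιG (le_sup_left : A ≤ A ⊔ B))).hom (((St x).map biprod.fst).hom v) +
      ((St x).map (ιG (le_sup_right : B ≤ A ⊔ B))).hom (((St x).map biprod.snd).hom v) = 0 := by
    have h1 : ((St x).map (mvS A B).g).hom
        (((St x).map biprod.inl).hom (((St x).map biprod.fst).hom v) +
          ((St x).map biprod.inr).hom (((St x).map biprod.snd).hom v)) = 0 := by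
      rw [← St_biprod_total x v]
      exact hgv
    rw [map_add] at h1
    have e1 : ∀ a, ((St x).map (mvS A B).g).hom (((St x).map biprod.inl).hom a) =
        ((St x).map (ιG (le_sup_left : A ≤ A ⊔ B))).hom a := by
      intro a
      rw [← St_comp_apply]
      congr 3
      exact biprod.inl_desc _ _
    have e2 : ∀ b, ((St x).map (mvS A B).g).hom (((St x).map biprod.inr).hom b) =
        ((St x).map (ιG (le_sup_right : B ≤ A ⊔ B))).hom b := by
      intro b
      rw [← St_comp_apply]
      congr 3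
      exact biprod.inr_desc _ _
    rw [e1, e2] at h1
    exact h1
  by_cases hx : x ∈ A ∧ x ∈ B
  · obtain ⟨hxA, hxB⟩ := hx
    obtain ⟨n, hn⟩ := cZ_surjective A x hxA (((St x).map biprod.fst).hom v)
    obtain ⟨m, hm⟩ := cZ_surjective B x hxB (((St x).map biprod.snd).hom v)
    rw [← hn, ← hm, St_ιG_cZ, St_ιG_cZ, ← map_add] at hg
    have hnm : n + m = 0 := cZ_injective (A ⊔ B) x (Or.inl hxA) (hg.trans (map_zero _).symm)
    refine ⟨cZ (A ⊓ B) x ⟨hxA, hxB⟩ n, ?_⟩
    rw [St_biprod_total x (((St x).map (mvS A B).f).hom _), St_biprod_total x v, hfst, hsnd,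
      St_ιG_cZ, St_ιG_cZ, ← hn, ← hm, ← map_neg]
    congr 3
    omega
  · have h0 : ((St x).map biprod.fst).hom v = 0 ∧ ((St x).map biprod.snd).hom v = 0 := by
      by_cases hxA : x ∈ A
      · have hxB : x ∉ B := fun h => hx ⟨hxA, h⟩
        have hb := St_G_eq_zero B x hxB (((St x).map biprod.snd).hom v)
        rw [hb, map_zero, add_zero] at hg
        exact ⟨St_injective_of_mono x _ (hg.trans (map_zero _).symm), hb⟩
      · have ha := St_G_eq_zero A x hxA (((St x).map biprod.fst).hom v)
        rw [ha, map_zero, zero_add] at hg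
        exact ⟨ha, St_injective_of_mono x _ (hg.trans (map_zero _).symm)⟩
    refine ⟨0, ?_⟩
    rw [map_zero, St_biprod_total x v, h0.1, h0.2, map_zero, map_zero, add_zero]

lemma mvS_shortExact : (mvS A B).ShortExact :=
  { exact := mvS_exact A B
    mono_f := mvS_mono A B
    epi_g := mvS_epi A B }

end MVS

end Groth.Agent.Lib.Helper80.GV
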