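import Groth.Agent.Lib.Helper80.GV.SpecTop

/-!
# Scheiderer's vanishing theorem for an abstract cohomology theory on the opens of a spectral space
(helper80)

We axiomatize what is needed of the groups `H^n(U, F)`: restriction maps, vanishing on the empty
set, local vanishing of classes of positive degree and two consequences of the Mayer–Vietoris
sequence.
-/

set_option autoImplicit false
universe u

open Set TopologicalSpace Topology

namespace Groth.Agent.Lib.Helper80.GV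

/-- the data of cohomology groups on the opens of a space, with the consequences of
Mayer–Vietoris that we need -/
structure CohData (X : Type u) [TopologicalSpace X] where
  H : ℕ → Opens X → Type u
  zero : ∀ n U, H n U
  rs : ∀ {n : ℕ} {U V : Opens X}, V ≤ U → H n U → H n V
  rs_zero : ∀ {n : ℕ} {U V : Opens X} (h : V ≤ U), rs h (zero n U) = zero n V
  rs_rs : ∀ {n : ℕ} {U V W : Opens X} (h₁ : V ≤ U) (h₂ : W ≤ V) (x : H n U),
    rs h₂ (rs h₁ x) = rs (h₂.trans h₁) x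
  rs_refl : ∀ {n : ℕ} {U : Opens X} (x : H n U), rs (le_refl U) x = x
  zero_of_empty : ∀ (n : ℕ) (U : Opens X), (U : Set X) = ∅ → ∀ x : H n U, x = zero n U
  kill : ∀ (n : ℕ) (U : Opens X) (ξ : H (n + 1) U) (x : X), x ∈ U →
    ∃ (V : Opens X) (h : V ≤ U), x ∈ V ∧ rs h ξ = zero (n + 1) V
  glue : ∀ (n : ℕ) (A B : Opens X) (a : H n A) (b : H n B),
    rs (inf_le_left : A ⊓ B ≤ A) a = rs (inf_le_right : A ⊓ B ≤ B) b →
    ∃ c : H n (A ⊔ B), rs (le_sup_left : A ≤ A ⊔ B) c = a ∧ rs (le_sup_right : B ≤ A ⊔ B) c = b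
  vanish : ∀ (n : ℕ) (A B : Opens X) (ξ : H (n + 1) (A ⊔ B)),
    rs (le_sup_left : A ≤ A ⊔ B) ξ = zero (n + 1) A →
    rs (le_sup_right : B ≤ A ⊔ B) ξ = zero (n + 1) B →
    ∃ η : H n (A ⊓ B), ∀ (A' B' : Opens X) (hA : A' ≤ A) (hB : B' ≤ B) (a' : H n A'),
      rs (inf_le_left : A' ⊓ B' ≤ A') a' = rs (inf_le_inf hA hB) η →
      rs (sup_le_sup hA hB) ξ = zero (n + 1) (A' ⊔ B')

variable {X : Type u} [TopologicalSpace X] (D : CohData X)

/-- restriction of zero classes -/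
lemma CohData.rs_eq_zero_of_le {n : ℕ} {U V W : Opens X} (h₁ : V ≤ U) (h₂ : W ≤ V) (x : D.H n U)
    (hx : D.rs h₁ x = D.zero n V) : D.rs (h₂.trans h₁) x = D.zero n W := by
  rw [← D.rs_rs h₁ h₂, hx, D.rs_zero]

/-- classes in degree `p` die in the pro-system of quasi-compact open neighbourhoods of `W` -/
def ProVan (W : Set X) (p : ℕ) : Prop :=
  ∀ (V : Opens X), IsCompact (V : Set X) → W ⊆ V → ∀ ξ : D.H p V,
    ∃ (V' : Opens X) (h : V' ≤ V), IsCompact (V' : Set X) ∧ W ⊆ V' ∧ D.rs h ξ = D.zero p V'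

/-- restriction to `U` is surjective on the pro-system of neighbourhoods of `W` in degree `q` -/
def ProSurj (W : Set X) (U : Opens X) (q : ℕ) : Prop :=
  ∀ (V : Opens X), IsCompact (V : Set X) → W ⊆ V → ∀ ξ : D.H q (V ⊓ U),
    ∃ (V' : Opens X) (h : V' ≤ V) (ξ' : D.H q V'), IsCompact (V' : Set X) ∧ W ⊆ V' ∧
      D.rs (inf_le_left : V' ⊓ U ≤ V') ξ' = D.rs (inf_le_inf_right U h) ξ

lemma proVan_of_eq_empty {W : Set X} (hW : W = ∅) (p : ℕ) : ProVan D W p := by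
  intro V _ _ ξ
  refine ⟨⊥, bot_le, by simp, by simp [hW], ?_⟩
  exact D.zero_of_empty p ⊥ (by simp) _

variable [SpectralSpace X]

lemma isCompact_inf {A B : Opens X} (hA : IsCompact (A : Set X)) (hB : IsCompact (B : Set X)) :
    IsCompact ((A ⊓ B : Opens X) : Set X) :=
  QuasiSeparatedSpace.inter_isCompact _ _ A.2 hA B.2 hB

lemma isCompact_sup {A B : Opens X} (hA : IsCompact (A : Set X)) (hB : IsCompact (B : Set X)) :
    IsCompact ((A ⊔ B : Opens X) : Set X) :=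
  hA.union hB

/-- vanishing implies surjectivity of restrictions (with zero lifts) -/
lemma proSurj_of_proVan {m q : ℕ}
    (hvan : ∀ W : Set X, ProOpen W → SpLT W m → ProVan D W q)
    (W : Set X) (hW : ProOpen W) (hdim : SpLT W m) (U : Opens X) (hU : IsCompact (U : Set X)) :
    ProSurj D W U q := by
  intro V hV hWV ξ
  obtain ⟨V₁, h₁, hV₁c, hWV₁, hξ⟩ := hvan (W ∩ U) (hW.inter_opens U hU)
    (hdim.mono inter_subset_left) (V ⊓ U) (isCompact_inf hV hU)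
    (fun x hx => ⟨hWV hx.1, hx.2⟩) ξ
  obtain ⟨V₂, hV₂c, hWV₂, hV₂⟩ := hW.exists_between_inter U hU V₁ V₁.2 hWV₁
  have hle : V₂ ⊓ V ⊓ U ≤ V₁ := fun x hx => hV₂ ⟨hx.1.1, hx.2⟩
  refine ⟨V₂ ⊓ V, inf_le_right, D.zero q _, isCompact_inf hV₂c hV,
    fun x hx => ⟨hWV₂ hx, hWV hx⟩, ?_⟩
  rw [D.rs_zero]
  exact (D.rs_eq_zero_of_le h₁ hle ξ hξ).symm

/-- the points of `U` lying in all quasi-compact open neighbourhoods of `Z` -/
def genIn (Z : Set X) (U : Opens X) : Set X :=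
  {x | x ∈ U ∧ ∀ V' : Opens X, IsCompact (V' : Set X) → Z ⊆ V' → x ∈ V'}

omit [SpectralSpace X] in
lemma proOpen_genIn [QuasiSeparatedSpace X] (Z : Set X) (U : Opens X) (hU : IsCompact (U : Set X)) :
    ProOpen (genIn Z U) := by
  intro x hx
  by_cases hxU : x ∈ U
  · have : ¬ ∀ V' : Opens X, IsCompact (V' : Set X) → Z ⊆ V' → x ∈ V' := fun h => hx ⟨hxU, h⟩
    push Not at this
    obtain ⟨V', hV'c, hZV', hxV'⟩ := this
    exact ⟨V', hV'c, fun y hy => hy.2 V' hV'c hZV', hxV'⟩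
  · exact ⟨U, hU, fun y hy => hy.1, hxU⟩

lemma exists_nhd_inter_le (Z : Set X) (U : Opens X) (hU : IsCompact (U : Set X)) (O : Set X)
    (hO : IsOpen O) (h : genIn Z U ⊆ O) :
    ∃ V' : Opens X, IsCompact (V' : Set X) ∧ Z ⊆ V' ∧ (V' : Set X) ∩ U ⊆ O := by
  obtain ⟨V'', ⟨V', hVc, hZV, rfl⟩, hVO⟩ := exists_le_of_iInter_subset
    {V'' : Opens X | ∃ V' : Opens X, IsCompact (V' : Set X) ∧ Z ⊆ V' ∧ V'' = V' ⊓ U}
    ⟨⊤ ⊓ U, ⊤, by simpa using isCompact_univ, by simp, rfl⟩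
    (by
      rintro V'' ⟨V', hVc, _, rfl⟩
      exact isCompact_inf hVc hU)
    (by
      rintro _ ⟨V₁, h₁c, h₁Z, rfl⟩ _ ⟨V₂, h₂c, h₂Z, rfl⟩
      refine ⟨V₁ ⊓ V₂, isCompact_inf h₁c h₂c, subset_inter h₁Z h₂Z, ?_⟩
      ext x
      simp only [Opens.coe_inf, mem_inter_iff, SetLike.mem_coe]
      tauto) O hO (by
      intro x hx
      rw [Set.mem_iInter₂] at hx
      apply h
      refine ⟨(hx (⊤ ⊓ U) ⟨⊤, by simpa using isCompact_univ, by simp, rfl⟩).2, ?_⟩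
      intro V' hV'c hZV'
      exact (hx (V' ⊓ U) ⟨V', hV'c, hZV', rfl⟩).1)
  exact ⟨V', hVc, hZV, hVO⟩

/-- vanishing in degree `n` in dimension `< n` gives surjectivity of restrictions in degree `n`
in dimension `< n + 1` -/
theorem proSurj_of_proVan_lower {n : ℕ}
    (hvan : ∀ W : Set X, ProOpen W → SpLT W n → ProVan D W n)
    (W : Set X) (hW : ProOpen W) (hdim : SpLT W (n + 1)) (U : Opens X)
    (hU : IsCompact (U : Set X)) : ProSurj D W U n := by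
  intro V hV hWV ξ
  -- the part of `W` outside `U`
  have hZc : IsCompact (W ∩ (U : Set X)ᶜ) := hW.isCompact.inter_right U.2.isClosed_compl
  have hsubW : genIn (W ∩ (U : Set X)ᶜ) U ⊆ W := by
    intro x hx
    by_contra hxW
    obtain ⟨V₀, hV₀c, hWV₀, hxV₀⟩ := hW x hxW
    exact hxV₀ (hx.2 V₀ hV₀c (inter_subset_left.trans hWV₀))
  have hdim'' : SpLT (genIn (W ∩ (U : Set X)ᶜ) U) n := by
    refine hdim.of_specialization hsubW (fun w hw => ?_)
    obtain ⟨z, hz, hwz⟩ := exists_specializes_of_forall_mem hZc w hw.2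
    refine ⟨z, hz.1, hwz, ?_⟩
    rintro rfl
    exact hz.2 hw.1
  obtain ⟨V₁, h₁, hV₁c, hWV₁, hξ⟩ := hvan _ (proOpen_genIn _ U hU) hdim'' (V ⊓ U)
    (isCompact_inf hV hU) (fun x hx => ⟨hWV (hsubW hx), hx.1⟩) ξ
  obtain ⟨Vz, hVzc, hZVz, hVz⟩ := exists_nhd_inter_le _ U hU V₁ V₁.2 hWV₁
  -- glue `ξ` on `A = V ⊓ U` with `0` on `B = V ⊓ Vz`
  have hAB : (V ⊓ U) ⊓ (V ⊓ Vz) ≤ V₁ := fun x hx => hVz ⟨hx.2.2, hx.1.2⟩
  have h0 : D.rs (inf_le_left : (V ⊓ U) ⊓ (V ⊓ Vz) ≤ V ⊓ U) ξ =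
      D.rs (inf_le_right : (V ⊓ U) ⊓ (V ⊓ Vz) ≤ V ⊓ Vz) (D.zero n (V ⊓ Vz)) := by
    rw [D.rs_zero]
    exact D.rs_eq_zero_of_le h₁ hAB ξ hξ
  obtain ⟨c, hcA, _⟩ := D.glue n (V ⊓ U) (V ⊓ Vz) ξ (D.zero n _) h0
  have hle : (V ⊓ U) ⊔ (V ⊓ Vz) ≤ V := sup_le inf_le_left inf_le_left
  refine ⟨(V ⊓ U) ⊔ (V ⊓ Vz), hle, c, isCompact_sup (isCompact_inf hV hU) (isCompact_inf hV hVzc),
    ?_, ?_⟩
  · intro w hw
    by_cases hwU : w ∈ U
    · exact Or.inl ⟨hWV hw, hwU⟩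
    · exact Or.inr ⟨hWV hw, hZVz ⟨hw, hwU⟩⟩
  · rw [← hcA, D.rs_rs]

omit [SpectralSpace X] in
lemma isCompact_finset_sup (s : Finset (Opens X)) (hs : ∀ U ∈ s, IsCompact (U : Set X)) :
    IsCompact ((s.sup id : Opens X) : Set X) := by
  classical
  induction s using Finset.induction_on with
  | empty => simp
  | insert a s _ ih =>
    rw [Finset.sup_insert]
    exact (hs a (Finset.mem_insert_self a s)).union
      (ih (fun U hU => hs U (Finset.mem_insert_of_mem hU)))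

/-- the Mayer–Vietoris induction over a finite cover by quasi-compact opens on which the class
dies -/
theorem proVan_finite_cover {m q : ℕ}
    (hsurj : ∀ W : Set X, ProOpen W → SpLT W m → ∀ U : Opens X, IsCompact (U : Set X) →
      ProSurj D W U q) (s : Finset (Opens X)) :
    (∀ U ∈ s, IsCompact (U : Set X)) → ∀ (W : Set X), ProOpen W → SpLT W m →
      ∀ (V : Opens X), IsCompact (V : Set X) → W ⊆ V → ∀ ξ : D.H (q + 1) V, V ≤ s.sup id →
      (∀ U ∈ s, D.rs (inf_le_left : V ⊓ U ≤ V) ξ = D.zero (q + 1) (V ⊓ U)) →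
      ∃ (V' : Opens X) (h : V' ≤ V), IsCompact (V' : Set X) ∧ W ⊆ V' ∧
        D.rs h ξ = D.zero (q + 1) V' := by
  classical
  induction s using Finset.induction_on with
  | empty =>
    intro _ W _ _ V hV hWV ξ hcov _
    refine ⟨V, le_refl V, hV, hWV, ?_⟩
    rw [D.rs_refl]
    apply D.zero_of_empty
    rw [Finset.sup_empty] at hcov
    rw [Set.eq_empty_iff_forall_notMem]
    intro x hx
    exact hcov hx
  | insert B s _ ih =>
    intro hs W hW hdim V hV hWV ξ hcov hkill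
    have hsc : ∀ U ∈ s, IsCompact (U : Set X) := fun U hU => hs U (Finset.mem_insert_of_mem hU)
    have hBc : IsCompact (B : Set X) := hs B (Finset.mem_insert_self B s)
    have hAc : IsCompact ((s.sup id : Opens X) : Set X) := isCompact_finset_sup s hsc
    rw [Finset.sup_insert, id] at hcov
    -- first step: the induction hypothesis on `A = s.sup id`
    obtain ⟨V₂, h₂, hV₂c, hWV₂, hξ₂⟩ := ih hsc (W ∩ (s.sup id : Opens X))
      (hW.inter_opens _ hAc) (hdim.mono inter_subset_left) (V ⊓ s.sup id) (isCompact_inf hV hAc)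
      (fun x hx => ⟨hWV hx.1, hx.2⟩) (D.rs inf_le_left ξ) inf_le_right (by
        intro U hU
        rw [D.rs_rs]
        have hle : V ⊓ s.sup id ⊓ U ≤ V ⊓ U := inf_le_inf_right U inf_le_left
        exact D.rs_eq_zero_of_le inf_le_left hle ξ (hkill U (Finset.mem_insert_of_mem hU)))
    rw [D.rs_rs] at hξ₂
    obtain ⟨V₃, hV₃c, hWV₃, hV₃⟩ := hW.exists_between_inter _ hAc V₂ V₂.2 hWV₂
    -- the pair `A' = V₄ ⊓ A`, `B' = V₄ ⊓ B` with `V₄ = V₃ ⊓ V`
    have hV₄c : IsCompact ((V₃ ⊓ V : Opens X) : Set X) := isCompact_inf hV₃c hV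
    have hA'V₂ : V₃ ⊓ V ⊓ s.sup id ≤ V₂ := fun x hx => hV₃ ⟨hx.1.1, hx.2⟩
    have hA'V : V₃ ⊓ V ⊓ s.sup id ≤ V := inf_le_left.trans inf_le_right
    have hB'V : V₃ ⊓ V ⊓ B ≤ V := inf_le_left.trans inf_le_right
    have hA'c : IsCompact ((V₃ ⊓ V ⊓ s.sup id : Opens X) : Set X) := isCompact_inf hV₄c hAc
    have hB'c : IsCompact ((V₃ ⊓ V ⊓ B : Opens X) : Set X) := isCompact_inf hV₄c hBc
    have hsupV : (V₃ ⊓ V ⊓ s.sup id) ⊔ (V₃ ⊓ V ⊓ B) ≤ V := sup_le hA'V hB'V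
    have hl : D.rs (le_sup_left : V₃ ⊓ V ⊓ s.sup id ≤ _) (D.rs hsupV ξ) = D.zero (q + 1) _ := by
      rw [D.rs_rs]
      exact D.rs_eq_zero_of_le (h₂.trans inf_le_left) hA'V₂ ξ hξ₂
    have hr : D.rs (le_sup_right : V₃ ⊓ V ⊓ B ≤ _) (D.rs hsupV ξ) = D.zero (q + 1) _ := by
      rw [D.rs_rs]
      have hle : V₃ ⊓ V ⊓ B ≤ V ⊓ B := inf_le_inf_right B inf_le_right
      exact D.rs_eq_zero_of_le inf_le_left hle ξ (hkill B (Finset.mem_insert_self B s))
    obtain ⟨η, hη⟩ := D.vanish q _ _ (D.rs hsupV ξ) hl hr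
    -- lift `η` to a neighbourhood of `W ∩ A`
    obtain ⟨V₅, h₅, η', hV₅c, hWV₅, hη'⟩ := hsurj (W ∩ (s.sup id : Opens X))
      (hW.inter_opens _ hAc) (hdim.mono inter_subset_left) (V₃ ⊓ V ⊓ B) hB'c
      (V₃ ⊓ V ⊓ s.sup id) hA'c (fun x hx => ⟨⟨hWV₃ hx.1, hWV hx.1⟩, hx.2⟩) η
    obtain ⟨V₆, hV₆c, hWV₆, hV₆⟩ := hW.exists_between_inter _ hAc V₅ V₅.2 hWV₅
    -- the smaller pair `A'' = V₇ ⊓ A`, `B'' = V₇ ⊓ B` with `V₇ = V₆ ⊓ (V₃ ⊓ V)`
    have hV₇c : IsCompact ((V₆ ⊓ (V₃ ⊓ V) : Opens X) : Set X) := isCompact_inf hV₆c hV₄c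
    have hA''V₅ : V₆ ⊓ (V₃ ⊓ V) ⊓ s.sup id ≤ V₅ := fun x hx => hV₆ ⟨hx.1.1, hx.2⟩
    have hA : V₆ ⊓ (V₃ ⊓ V) ⊓ s.sup id ≤ V₃ ⊓ V ⊓ s.sup id := inf_le_inf_right _ inf_le_right
    have hB : V₆ ⊓ (V₃ ⊓ V) ⊓ B ≤ V₃ ⊓ V ⊓ B := inf_le_inf_right _ inf_le_right
    have hkey := hη _ _ hA hB (D.rs hA''V₅ η') (by
      rw [D.rs_rs]
      have hle : V₆ ⊓ (V₃ ⊓ V) ⊓ s.sup id ⊓ (V₆ ⊓ (V₃ ⊓ V) ⊓ B) ≤ V₅ ⊓ (V₃ ⊓ V ⊓ B) :=
        inf_le_inf hA''V₅ hB
      have h1 : D.rs hle (D.rs inf_le_left η') = D.rs hle (D.rs (inf_le_inf_right _ h₅) η) := by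
        rw [hη']
      rw [D.rs_rs, D.rs_rs] at h1
      exact h1)
    rw [D.rs_rs] at hkey
    refine ⟨(V₆ ⊓ (V₃ ⊓ V) ⊓ s.sup id) ⊔ (V₆ ⊓ (V₃ ⊓ V) ⊓ B), (sup_le_sup hA hB).trans hsupV,
      isCompact_sup (isCompact_inf hV₇c hAc) (isCompact_inf hV₇c hBc), ?_, hkey⟩
    intro w hw
    have hw7 : w ∈ V₆ ⊓ (V₃ ⊓ V) := ⟨hWV₆ hw, hWV₃ hw, hWV hw⟩
    rcases hcov (hWV hw) with hwB | hwA
    · exact Or.inr ⟨hw7, hwB⟩
    · exact Or.inl ⟨hw7, hwA⟩

/-- surjectivity in degree `q` gives vanishing in degree `q + 1` -/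
theorem proVan_succ_of_proSurj {m q : ℕ}
    (hsurj : ∀ W : Set X, ProOpen W → SpLT W m → ∀ U : Opens X, IsCompact (U : Set X) →
      ProSurj D W U q) (W : Set X) (hW : ProOpen W) (hdim : SpLT W m) : ProVan D W (q + 1) := by
  classical
  intro V hV hWV ξ
  -- a finite cover of `V` by quasi-compact opens on which `ξ` dies
  choose! N hN hxN hξN using D.kill q V ξ
  have hbasis : ∀ x ∈ (V : Set X), ∃ U : Opens X, IsCompact (U : Set X) ∧ x ∈ U ∧ U ≤ N x := by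
    intro x hx
    obtain ⟨v, ⟨hv1, hv2⟩, hxv, hvN⟩ :=
      (PrespectralSpace.isTopologicalBasis (X := X)).exists_subset_of_mem_open (hxN x hx) (N x).2
    exact ⟨⟨v, hv1⟩, hv2, hxv, hvN⟩
  choose! Ux hUxc hxUx hUxN using hbasis
  obtain ⟨t, hcov⟩ := hV.elim_nhds_subcover' (fun x _ => (Ux x : Set X))
    (fun x hx => (Ux x).2.mem_nhds (hxUx x hx))
  let s : Finset (Opens X) := (t.image (fun x => Ux x.1))
  refine proVan_finite_cover D hsurj s ?_ W hW hdim V hV hWV ξ ?_ ?_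
  · intro U hU
    obtain ⟨x, _, rfl⟩ := Finset.mem_image.1 hU
    exact hUxc x.1 x.2
  · intro y hy
    obtain ⟨x, hx, hyx⟩ := Set.mem_iUnion₂.1 (hcov hy)
    have hle : Ux x.1 ≤ s.sup id :=
      Finset.le_sup (f := id) (Finset.mem_image.2 ⟨x, hx, rfl⟩)
    exact hle hyx
  · intro U hU
    obtain ⟨x, _, rfl⟩ := Finset.mem_image.1 hU
    have hle : V ⊓ Ux x.1 ≤ N x.1 := inf_le_right.trans (hUxN x.1 x.2)
    exact D.rs_eq_zero_of_le (hN x.1 x.2) hle ξ (hξN x.1 x.2)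

/-- **Scheiderer's theorem** for an abstract cohomology theory: vanishing above the dimension and
surjectivity of restrictions in top degree, for pro-open subsets of a spectral space. -/
theorem scheiderer_aux (n : ℕ) :
    (∀ W : Set X, ProOpen W → SpLT W n → ∀ p, n ≤ p → ProVan D W p) ∧
    (∀ W : Set X, ProOpen W → SpLT W (n + 1) → ∀ U : Opens X, IsCompact (U : Set X) →
      ProSurj D W U n) := by
  induction n with
  | zero =>
    have h0 : ∀ W : Set X, ProOpen W → SpLT W 0 → ∀ p, 0 ≤ p → ProVan D W p :=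
      fun W _ hdim p _ => proVan_of_eq_empty D hdim.eq_empty p
    exact ⟨h0, fun W hW hdim U hU =>
      proSurj_of_proVan_lower D (fun W' hW' hdim' => h0 W' hW' hdim' 0 le_rfl) W hW hdim U hU⟩
  | succ n ih =>
    have key : ∀ q, n ≤ q →
        (∀ W : Set X, ProOpen W → SpLT W (n + 1) → ∀ U : Opens X, IsCompact (U : Set X) →
          ProSurj D W U q) ∧
        (∀ W : Set X, ProOpen W → SpLT W (n + 1) → ProVan D W (q + 1)) := by
      intro q hq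
      induction q, hq using Nat.le_induction with
      | base => exact ⟨ih.2, fun W hW hdim => proVan_succ_of_proSurj D ih.2 W hW hdim⟩
      | succ q _ ihq =>
        have h1 : ∀ W : Set X, ProOpen W → SpLT W (n + 1) → ∀ U : Opens X,
            IsCompact (U : Set X) → ProSurj D W U (q + 1) :=
          fun W hW hdim U hU => proSurj_of_proVan D ihq.2 W hW hdim U hU
        exact ⟨h1, fun W hW hdim => proVan_succ_of_proSurj D h1 W hW hdim⟩
    have h1 : ∀ W : Set X, ProOpen W → SpLT W (n + 1) → ∀ p, n + 1 ≤ p → ProVan D W p := by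
      intro W hW hdim p hp
      obtain ⟨q, rfl⟩ : ∃ q, p = q + 1 := ⟨p - 1, by omega⟩
      exact (key q (by omega)).2 W hW hdim
    exact ⟨h1, fun W hW hdim U hU =>
      proSurj_of_proVan_lower D (fun W' hW' hdim' => h1 W' hW' hdim' (n + 1) le_rfl) W hW hdim
        U hU⟩

/-- vanishing of cohomology of the whole space above the dimension -/
theorem CohData.eq_zero_of_spLT (d : ℕ) (hdim : SpLT (univ : Set X) (d + 1)) (p : ℕ) (hp : d < p)
    (ξ : D.H p ⊤) : ξ = D.zero p ⊤ := by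
  obtain ⟨V', h, _, hV', hξ⟩ := (scheiderer_aux D (d + 1)).1 univ proOpen_univ hdim p hp ⊤
    (by simpa using isCompact_univ) (by simp) ξ
  obtain rfl : V' = ⊤ := top_le_iff.1 (fun x _ => hV' (mem_univ x))
  rw [D.rs_refl] at hξ
  exact hξ

/-- surjectivity of restriction to quasi-compact opens in top degree -/
theorem CohData.exists_rs_eq_of_spLT (d : ℕ) (hdim : SpLT (univ : Set X) (d + 1)) (U : Opens X)
    (hU : IsCompact (U : Set X)) (ξ : D.H d U) : ∃ ξ' : D.H d ⊤, D.rs le_top ξ' = ξ := by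
  obtain ⟨V', h, ξ', _, hV', hξ⟩ := (scheiderer_aux D d).2 univ proOpen_univ hdim U hU ⊤
    (by simpa using isCompact_univ) (by simp) (D.rs inf_le_right ξ)
  obtain rfl : V' = ⊤ := top_le_iff.1 (fun x _ => hV' (mem_univ x))
  refine ⟨ξ', ?_⟩
  have hle : U ≤ ⊤ ⊓ U := le_inf le_top le_rfl
  have h1 := congrArg (D.rs hle) hξ
  rw [D.rs_rs, D.rs_rs, D.rs_rs, D.rs_refl] at h1
  exact h1

end Groth.Agent.Lib.Helper80.GV
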