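import Mathlib.Topology.Spectral.Basic
import Mathlib.Topology.Spectral.ConstructibleTopology
import Mathlib.Topology.KrullDimension
import Mathlib.Topology.Sets.Opens

/-!
# Pro-open subsets of spectral spaces and chains of specializations (helper80)
-/

set_option autoImplicit false

open Set TopologicalSpace Topology

namespace Groth.Agent.Lib.Helper80.GV

variable {X : Type*} [TopologicalSpace X]

section Constructible

variable [SpectralSpace X]

lemma compactSpace_constructible : @CompactSpace X (constructibleTopology X) := by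
  have h : CompactSpace (WithConstructibleTopology X) := inferInstance
  exact @Function.Surjective.compactSpace _ _ _ (constructibleTopology X) _
    (WithTopology.continuous_ofTopology (constructibleTopology X)) h
    (WithTopology.ofTopology_surjective (constructibleTopology X))

lemma isClosed_constructible_of_isCompact_isOpen {V : Set X} (hc : IsCompact V) (ho : IsOpen V) :
    IsClosed[constructibleTopology X] V := by
  rw [← @isOpen_compl_iff X V (constructibleTopology X)]
  apply IsCompact.isOpen_constructibleTopology_of_isClosed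
  · rwa [compl_compl]
  · exact ho.isClosed_compl

lemma isClosed_constructible_of_isClosed {C : Set X} (hC : IsClosed C) :
    IsClosed[constructibleTopology X] C := by
  rw [← @isOpen_compl_iff X C (constructibleTopology X)]
  rw [@isOpen_iff_forall_mem_open X (constructibleTopology X)]
  intro x hx
  obtain ⟨v, ⟨hv1, hv2⟩, hxv, hvC⟩ :=
    (PrespectralSpace.isTopologicalBasis (X := X)).exists_subset_of_mem_open hx hC.isOpen_compl
  exact ⟨v, hvC, hv2.isOpen_constructibleTopology_of_isOpen hv1, hxv⟩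

/-- a directed family of quasi-compact opens whose intersection lies in an open set has a member
inside that open set -/
theorem exists_le_of_iInter_subset (𝒮 : Set (Opens X)) (hne : 𝒮.Nonempty)
    (hc : ∀ V ∈ 𝒮, IsCompact (V : Set X)) (hinf : ∀ V₁ ∈ 𝒮, ∀ V₂ ∈ 𝒮, V₁ ⊓ V₂ ∈ 𝒮)
    (O : Set X) (hO : IsOpen O) (h : ⋂ V ∈ 𝒮, (V : Set X) ⊆ O) : ∃ V ∈ 𝒮, (V : Set X) ⊆ O := by
  classical
  have hcomp := @isCompact_univ X (constructibleTopology X) compactSpace_constructible
  have hfin := @IsCompact.elim_finite_subfamily_closed X (constructibleTopology X) univ 𝒮 hcomp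
    (fun V => (V.1 : Set X) ∩ Oᶜ)
    (fun V => @IsClosed.inter X _ _ (constructibleTopology X)
      (isClosed_constructible_of_isCompact_isOpen (hc V.1 V.2) V.1.2)
      (isClosed_constructible_of_isClosed hO.isClosed_compl))
    (by
      rw [Set.eq_empty_iff_forall_notMem]
      rintro x ⟨-, hx⟩
      rw [Set.mem_iInter] at hx
      obtain ⟨V₀, hV₀⟩ := hne
      have hxO : x ∉ O := (hx ⟨V₀, hV₀⟩).2
      apply hxO
      apply h
      rw [Set.mem_iInter₂]
      intro V hV
      exact (hx ⟨V, hV⟩).1)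
  obtain ⟨u, hu⟩ := hfin
  have hlow : ∀ u : Finset 𝒮, ∃ V₀ ∈ 𝒮, ∀ V ∈ u, V₀ ≤ V.1 := by
    intro u
    induction u using Finset.induction_on with
    | empty =>
      obtain ⟨V₀, hV₀⟩ := hne
      exact ⟨V₀, hV₀, fun V hV => absurd hV (Finset.notMem_empty V)⟩
    | insert a u _ ih =>
      obtain ⟨V₀, hV₀, hle⟩ := ih
      refine ⟨a.1 ⊓ V₀, hinf _ a.2 _ hV₀, fun V hV => ?_⟩
      rcases Finset.mem_insert.1 hV with rfl | hV
      · exact inf_le_left
      · exact inf_le_right.trans (hle V hV)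
  obtain ⟨V₀, hV₀, hle⟩ := hlow u
  refine ⟨V₀, hV₀, fun x hx => ?_⟩
  by_contra hxO
  have : x ∈ (univ : Set X) ∩ ⋂ i ∈ u, ((i.1 : Set X) ∩ Oᶜ) := by
    refine ⟨mem_univ x, ?_⟩
    rw [Set.mem_iInter₂]
    intro V hV
    exact ⟨hle V hV hx, hxO⟩
  rw [hu] at this
  exact this

end Constructible

/-- a subset which is an intersection of quasi-compact opens -/
def ProOpen (W : Set X) : Prop :=
  ∀ x, x ∉ W → ∃ V : Opens X, IsCompact (V : Set X) ∧ W ⊆ V ∧ x ∉ V

lemma proOpen_univ : ProOpen (univ : Set X) := fun x hx => absurd (mem_univ x) hx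

lemma ProOpen.inter_opens {W : Set X} (hW : ProOpen W) (U : Opens X) (hU : IsCompact (U : Set X))
    [QuasiSeparatedSpace X] : ProOpen (W ∩ U) := by
  intro x hx
  by_cases hxW : x ∈ W
  · exact ⟨U, hU, inter_subset_right, fun h => hx ⟨hxW, h⟩⟩
  · obtain ⟨V, hV, hWV, hxV⟩ := hW x hxW
    exact ⟨V, hV, inter_subset_left.trans hWV, hxV⟩

/-- for a pro-open `W` inside an open `O` there is a quasi-compact open in between -/
theorem ProOpen.exists_between [SpectralSpace X] {W : Set X} (hW : ProOpen W) (O : Set X)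
    (hO : IsOpen O) (hWO : W ⊆ O) : ∃ V : Opens X, IsCompact (V : Set X) ∧ W ⊆ V ∧ (V : Set X) ⊆ O := by
  obtain ⟨V, ⟨hVc, hWV⟩, hVO⟩ := exists_le_of_iInter_subset
    {V : Opens X | IsCompact (V : Set X) ∧ W ⊆ V}
    ⟨⊤, by simpa using isCompact_univ, by simp⟩ (fun V hV => hV.1)
    (fun V₁ h₁ V₂ h₂ => ⟨QuasiSeparatedSpace.inter_isCompact _ _ V₁.2 h₁.1 V₂.2 h₂.1,
      subset_inter h₁.2 h₂.2⟩) O hO (by
      intro x hx
      rw [Set.mem_iInter₂] at hx
      by_contra hxO
      have hxW : x ∉ W := fun h => hxO (hWO h)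
      obtain ⟨V, hV, hWV, hxV⟩ := hW x hxW
      exact hxV (hx V ⟨hV, hWV⟩))
  exact ⟨V, hVc, hWV, hVO⟩

/-- variant: relative to a quasi-compact open `A` -/
theorem ProOpen.exists_between_inter [SpectralSpace X] {W : Set X} (hW : ProOpen W) (A : Opens X)
    (hA : IsCompact (A : Set X)) (O : Set X) (hO : IsOpen O) (hWO : W ∩ A ⊆ O) :
    ∃ V : Opens X, IsCompact (V : Set X) ∧ W ⊆ V ∧ (V : Set X) ∩ A ⊆ O := by
  obtain ⟨V', ⟨V, hVc, hWV, rfl⟩, hVO⟩ := exists_le_of_iInter_subset
    {V' : Opens X | ∃ V : Opens X, IsCompact (V : Set X) ∧ W ⊆ V ∧ V' = V ⊓ A}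
    ⟨⊤ ⊓ A, ⊤, by simpa using isCompact_univ, by simp, rfl⟩
    (by
      rintro V' ⟨V, hVc, _, rfl⟩
      exact QuasiSeparatedSpace.inter_isCompact _ _ V.2 hVc A.2 hA)
    (by
      rintro _ ⟨V₁, h₁c, h₁W, rfl⟩ _ ⟨V₂, h₂c, h₂W, rfl⟩
      refine ⟨V₁ ⊓ V₂, QuasiSeparatedSpace.inter_isCompact _ _ V₁.2 h₁c V₂.2 h₂c,
        subset_inter h₁W h₂W, ?_⟩
      ext x
      simp only [Opens.coe_inf, mem_inter_iff, SetLike.mem_coe]
      tauto) O hO (by
      intro x hx
      rw [Set.mem_iInter₂] at hx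
      by_contra hxO
      have hxA : x ∈ (A : Set X) := (hx (⊤ ⊓ A) ⟨⊤, by simpa using isCompact_univ, by simp, rfl⟩).2
      have hxW : x ∉ W := fun h => hxO (hWO ⟨h, hxA⟩)
      obtain ⟨V, hV, hWV, hxV⟩ := hW x hxW
      exact hxV (hx (V ⊓ A) ⟨V, hV, hWV, rfl⟩).1)
  exact ⟨V, hVc, hWV, hVO⟩

/-- pro-open subsets of a spectral space are quasi-compact -/
theorem ProOpen.isCompact [SpectralSpace X] {W : Set X} (hW : ProOpen W) : IsCompact W := by
  rw [isCompact_iff_finite_subcover]
  intro ι O hO hWO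
  obtain ⟨V, hVc, hWV, hVO⟩ := hW.exists_between (⋃ i, O i) (isOpen_iUnion hO) hWO
  obtain ⟨t, ht⟩ := hVc.elim_finite_subcover O hO hVO
  exact ⟨t, hWV.trans ht⟩

/-- a point lying in every quasi-compact open neighbourhood of a quasi-compact set `Z` specializes
to a point of `Z` -/
theorem exists_specializes_of_forall_mem [PrespectralSpace X] {Z : Set X} (hZ : IsCompact Z)
    (w : X) (hw : ∀ V : Opens X, IsCompact (V : Set X) → Z ⊆ V → w ∈ V) : ∃ z ∈ Z, w ⤳ z := by
  by_contra hcon
  push Not at hcon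
  have hsub : Z ⊆ (closure {w})ᶜ := by
    intro z hz hzc
    exact hcon z hz (specializes_iff_mem_closure.2 hzc)
  obtain ⟨V, hVc, hVo, hZV, hVw⟩ :=
    PrespectralSpace.exists_isCompact_and_isOpen_between hZ isClosed_closure.isOpen_compl hsub
  exact hVw (hw ⟨V, hVo⟩ hVc hZV) (subset_closure (mem_singleton w))

/-- all chains of strict specializations inside `W` have length `< n` -/
def SpLT (W : Set X) (n : ℕ) : Prop :=
  ∀ (k : ℕ) (c : Fin (k + 1) → X), (∀ i, c i ∈ W) →
    (∀ i : Fin k, c i.succ ⤳ c i.castSucc ∧ c i.succ ≠ c i.castSucc) → k < n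

lemma SpLT.eq_empty {W : Set X} (h : SpLT W 0) : W = ∅ := by
  rw [Set.eq_empty_iff_forall_notMem]
  intro w hw
  exact Nat.not_lt_zero _ (h 0 (fun _ => w) (fun _ => hw) (fun i => i.elim0))

lemma SpLT.mono {W W' : Set X} (hWW' : W' ⊆ W) {n : ℕ} (h : SpLT W n) : SpLT W' n :=
  fun k c hc hs => h k c (fun i => hWW' (hc i)) hs

/-- if every point of `W'' ⊆ W` has a strict specialization in `W`, the dimension drops -/
lemma SpLT.of_specialization {W W'' : Set X} {n : ℕ} (h : SpLT W (n + 1)) (hsub : W'' ⊆ W)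
    (hz : ∀ w ∈ W'', ∃ z ∈ W, w ⤳ z ∧ w ≠ z) : SpLT W'' n := by
  intro k c hc hs
  obtain ⟨z, hzW, hwz, hne⟩ := hz (c 0) (hc 0)
  have := h (k + 1) (Fin.cons z c) (fun i => ?_) (fun i => ?_)
  · omega
  · refine Fin.cases ?_ (fun j => ?_) i
    · simpa using hzW
    · simpa using hsub (hc j)
  · refine Fin.cases ?_ (fun j => ?_) i
    · simpa using ⟨hwz, hne⟩
    · have h1 : (Fin.cons z c : Fin (k + 2) → X) j.succ.succ = c j.succ := by simp
      have h2 : (Fin.cons z c : Fin (k + 2) → X) j.succ.castSucc = c j.castSucc := by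
        rw [← Fin.succ_castSucc]
        simp
      rw [h1, h2]
      exact hs j

/-- a bound on the Krull dimension bounds chains of specializations -/
lemma SpLT.of_krullDim_le [T0Space X] (d : ℕ) (h : topologicalKrullDim X ≤ d) :
    SpLT (univ : Set X) (d + 1) := by
  intro k c _ hs
  let f : Fin (k + 1) → IrreducibleCloseds X := fun i =>
    ⟨closure {c i}, isIrreducible_singleton.closure, isClosed_closure⟩
  have hf : StrictMono f := by
    rw [Fin.strictMono_iff_lt_succ]
    intro i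
    obtain ⟨h1, h2⟩ := hs i
    refine lt_of_le_of_ne ?_ ?_
    · exact specializes_iff_closure_subset.1 h1
    · intro heq
      apply h2
      have h3 : closure {c i.castSucc} = closure {c i.succ} :=
        congrArg (fun t : IrreducibleCloseds X => (t : Set X)) heq
      have h4 : c i.castSucc ⤳ c i.succ := by
        rw [specializes_iff_closure_subset, h3]
      exact (h1.antisymm h4).eq
  have h1 : ((LTSeries.mk k f hf).length : WithBot ℕ∞) ≤ (d : WithBot ℕ∞) :=
    (Order.LTSeries.length_le_krullDim _).trans h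
  have h2 : k ≤ d := by exact_mod_cast h1
  omega

end Groth.Agent.Lib.Helper80.GV
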