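import Groth.Agent.Lib.Helper80.GV.MVSheaf
import Groth.Agent.Lib.Helper80.GV.ProSpec
import Groth.Agent.S0460

/-!
# Scheiderer's theorem for abelian sheaves on spectral spaces (helper80)
-/

set_option autoImplicit false
universe u

open CategoryTheory CategoryTheory.Limits TopologicalSpace Opposite Abelian

namespace Groth.Agent.Lib.Helper80.GV

open Groth.Agent.Lib.Helper4

variable {X : TopCat.{u}}

/-- the cohomology groups `H^n(U, F) = Ext^n(ℤ_U, F)` as abstract cohomology data -/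
noncomputable def cohData (F : CohTop.Ab X) : CohData X where
  H n U := Ext (G U) F n
  zero n U := 0
  rs h x := (Ext.mk₀ (ιG h)).comp x (zero_add _)
  rs_zero h := Ext.comp_zero _ _ _ _ _
  rs_rs h₁ h₂ x := by rw [Ext.mk₀_comp_mk₀_assoc, ιG_comp]
  rs_refl x := by rw [ιG_refl, Ext.mk₀_id_comp]
  zero_of_empty n U hU x := ext_eq_zero_of_isZero (isZero_G_of_eq_empty U hU) x
  kill n U ξ x hx := by
    obtain ⟨ι, V, hV, hsup, hξ⟩ := Groth.Agent.S0460.result F U n ξ
    have hx' : x ∈ iSup V := hsup ▸ hx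
    obtain ⟨i, hi⟩ := Opens.mem_iSup.1 hx'
    exact ⟨V i, hV i, hi, hξ i⟩
  glue n A B a b h := mv_glue (mvS_shortExact A B) a b h
  vanish n A B ξ h₁ h₂ := by
    obtain ⟨η, hη⟩ := mv_exists_delta (mvS_shortExact A B) (add_comm 1 n) ξ h₁ h₂
    refine ⟨η, fun A' B' hA hB a' ha' => ?_⟩
    rw [← hη]
    exact mv_delta_vanish (mvS_shortExact A B) (mvS_shortExact A' B') (ιG (inf_le_inf hA hB))
      (ιG hA) (ιG hB) (ιG (sup_le_sup hA hB)) (by rw [ιG_comp, ιG_comp])
      (by rw [ιG_comp, ιG_comp]) (by rw [ιG_comp, ιG_comp]) (by rw [ιG_comp, ιG_comp])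
      (add_comm 1 n) η a' ha'

end Groth.Agent.Lib.Helper80.GV
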