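import Groth.Agent.Lib.Helper80.GV.FreeStalk
import Mathlib.CategoryTheory.Subobject.Limits
import Mathlib.CategoryTheory.Subobject.Lattice

/-!
# Subobjects of abelian sheaves and their stalks (helper80)
-/

set_option autoImplicit false
universe u

open CategoryTheory CategoryTheory.Limits TopologicalSpace Opposite

namespace Groth.Agent.Lib.Helper80.GV

variable {X : TopCat.{u}} {F : CohTop.Ab X}

/-- the image of the stalk of a subobject in the stalk of the ambient sheaf -/
noncomputable def sr (x : X) (S : Subobject F) : AddSubgroup ((St x).obj F) :=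
  ((St x).map S.arrow).hom.range

lemma mem_sr_iff (x : X) (S : Subobject F) (v : (St x).obj F) :
    v ∈ sr x S ↔ ∃ w, ((St x).map S.arrow).hom w = v := Iff.rfl

lemma St_comp_apply (x : X) {A B C : CohTop.Ab X} (f : A ⟶ B) (g : B ⟶ C) (w : (St x).obj A) :
    ((St x).map (f ≫ g)).hom w = ((St x).map g).hom (((St x).map f).hom w) := by
  rw [Functor.map_comp]
  rfl

lemma sr_mono (x : X) {S T : Subobject F} (h : S ≤ T) : sr x S ≤ sr x T := by
  rintro v ⟨w, rfl⟩
  refine ⟨((St x).map (Subobject.ofLE S T h)).hom w, ?_⟩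
  rw [← St_comp_apply, Subobject.ofLE_arrow]

lemma St_zero_apply (x : X) {A B : CohTop.Ab X} (w : (St x).obj A) :
    ((St x).map (0 : A ⟶ B)).hom w = 0 := by
  rw [Functor.map_zero]
  rfl

/-- subobjects can be compared on stalks -/
lemma le_of_sr_le {S T : Subobject F} (h : ∀ x, sr x S ≤ sr x T) : S ≤ T := by
  have hφ : S.arrow ≫ cokernel.π T.arrow = 0 := by
    apply hom_eq_zero_of_St
    intro x
    ext w
    rw [St_comp_apply]
    obtain ⟨w', hw'⟩ := h x ⟨w, rfl⟩
    rw [← hw', ← St_comp_apply, cokernel.condition, St_zero_apply]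
    rfl
  exact Subobject.le_of_comm (Abelian.monoLift T.arrow S.arrow hφ) (Abelian.monoLift_comp _ _ _)

lemma eq_of_sr_eq {S T : Subobject F} (h : ∀ x, sr x S = sr x T) : S = T :=
  le_antisymm (le_of_sr_le fun x => (h x).le) (le_of_sr_le fun x => (h x).ge)

lemma St_surjective_of_epi (x : X) {A B : CohTop.Ab X} (f : A ⟶ B) [Epi f] :
    Function.Surjective ((St x).map f).hom :=
  (AddCommGrpCat.epi_iff_surjective _).1 inferInstance

lemma St_injective_of_mono (x : X) {A B : CohTop.Ab X} (f : A ⟶ B) [Mono f] :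
    Function.Injective ((St x).map f).hom :=
  (AddCommGrpCat.mono_iff_injective _).1 inferInstance

lemma sr_image (x : X) {A : CohTop.Ab X} (f : A ⟶ F) :
    sr x (imageSubobject f) = ((St x).map f).hom.range := by
  ext v
  constructor
  · rintro ⟨w, rfl⟩
    obtain ⟨w', rfl⟩ := St_surjective_of_epi x (factorThruImageSubobject f) w
    refine ⟨w', ?_⟩
    rw [← St_comp_apply, imageSubobject_arrow_comp]
  · rintro ⟨w, rfl⟩
    refine ⟨((St x).map (factorThruImageSubobject f)).hom w, ?_⟩
    rw [← St_comp_apply, imageSubobject_arrow_comp]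

lemma sr_top (x : X) : sr x (⊤ : Subobject F) = ⊤ := by
  rw [eq_top_iff]
  intro v _
  obtain ⟨w, hw⟩ := St_surjective_of_epi x (⊤ : Subobject F).arrow v
  exact ⟨w, hw⟩

lemma sr_sup (x : X) (S T : Subobject F) : sr x (S ⊔ T) = sr x S ⊔ sr x T := by
  apply le_antisymm
  · let D : (S : CohTop.Ab X) ⊞ (T : CohTop.Ab X) ⟶ F := biprod.desc S.arrow T.arrow
    have h1 : S ≤ imageSubobject D :=
      Subobject.le_of_comm (biprod.inl ≫ factorThruImageSubobject D) (by
        rw [Category.assoc, imageSubobject_arrow_comp, biprod.inl_desc])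
    have h2 : T ≤ imageSubobject D :=
      Subobject.le_of_comm (biprod.inr ≫ factorThruImageSubobject D) (by
        rw [Category.assoc, imageSubobject_arrow_comp, biprod.inr_desc])
    refine (sr_mono x (sup_le h1 h2)).trans ?_
    rw [sr_image]
    rintro v ⟨w, rfl⟩
    have hD : D = biprod.fst ≫ S.arrow + biprod.snd ≫ T.arrow := by
      apply biprod.hom_ext'
      · rw [biprod.inl_desc, Preadditive.comp_add, biprod.inl_fst_assoc, biprod.inl_snd_assoc,
          zero_comp, add_zero]
      · rw [biprod.inr_desc, Preadditive.comp_add, biprod.inr_fst_assoc, biprod.inr_snd_assoc,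
          zero_comp, zero_add]
    rw [hD, Functor.map_add]
    change ((St x).map (biprod.fst ≫ S.arrow)).hom w + ((St x).map (biprod.snd ≫ T.arrow)).hom w ∈ _
    rw [St_comp_apply, St_comp_apply]
    exact AddSubgroup.add_mem _ (AddSubgroup.mem_sup_left ⟨_, rfl⟩)
      (AddSubgroup.mem_sup_right ⟨_, rfl⟩)
  · exact sup_le (sr_mono x le_sup_left) (sr_mono x le_sup_right)

lemma sr_bot (x : X) : sr x (⊥ : Subobject F) = ⊥ := by
  rw [eq_bot_iff]
  rintro v ⟨w, rfl⟩
  have h0 : (⊥ : Subobject F).arrow = 0 := Subobject.bot_arrow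
  rw [h0, St_zero_apply]
  exact AddSubgroup.zero_mem _

lemma sr_finset_sup (x : X) {T : Type*} (B : Finset T) (b : T → Subobject F) :
    sr x (B.sup b) = B.sup (fun t => sr x (b t)) := by
  classical
  induction B using Finset.induction_on with
  | empty => rw [Finset.sup_empty, Finset.sup_empty, sr_bot]
  | insert a B _ ih => rw [Finset.sup_insert, Finset.sup_insert, sr_sup, ih]

/-- stalks of a pullback subobject -/
lemma sr_pullback (x : X) {A : CohTop.Ab X} (f : A ⟶ F) (S : Subobject F) :
    sr x ((Subobject.pullback f).obj S) = (sr x S).comap ((St x).map f).hom := by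
  set R := (Subobject.pullback f).obj S with hR
  have hw : R.arrow ≫ f = Subobject.pullbackπ f S ≫ S.arrow := (Subobject.isPullback f S).w.symm
  ext v
  constructor
  · rintro ⟨w, rfl⟩
    change ((St x).map f).hom (((St x).map R.arrow).hom w) ∈ sr x S
    rw [← St_comp_apply, hw, St_comp_apply]
    exact ⟨_, rfl⟩
  · intro hv
    obtain ⟨u, hu⟩ := hv
    -- exactness of `R ⟶ A ⟶ F/S`
    have hz : R.arrow ≫ f ≫ cokernel.π S.arrow = 0 := by
      rw [← Category.assoc, hw, Category.assoc, cokernel.condition, comp_zero]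
    let Sc : ShortComplex (CohTop.Ab X) := ShortComplex.mk R.arrow (f ≫ cokernel.π S.arrow) hz
    have hlim : IsLimit (KernelFork.ofι R.arrow hz) := by
      refine KernelFork.IsLimit.ofι' R.arrow hz (fun {Z} k hk => ?_)
      have hk' : (k ≫ f) ≫ cokernel.π S.arrow = 0 := by rw [Category.assoc]; exact hk
      let l := Abelian.monoLift S.arrow (k ≫ f) hk'
      have hl : l ≫ S.arrow = k ≫ f := Abelian.monoLift_comp _ _ _
      exact ⟨(Subobject.isPullback f S).lift l k hl, (Subobject.isPullback f S).lift_snd l k hl⟩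
    have hex : Sc.Exact := ShortComplex.exact_of_f_is_kernel Sc hlim
    have hex' : (Sc.map (St x)).Exact := hex.map (St x)
    rw [ShortComplex.ab_exact_iff] at hex'
    have hv0 : ((St x).map (f ≫ cokernel.π S.arrow)).hom v = 0 := by
      rw [St_comp_apply, ← hu, ← St_comp_apply, cokernel.condition, St_zero_apply]
    obtain ⟨w, hw'⟩ := hex' v hv0
    exact ⟨w, hw'⟩

end Groth.Agent.Lib.Helper80.GV
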